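import Cfsg.Agent.Hx.MC

/-! Root group sequences of Moufang octagons: generalities and central root elements. -/

set_option autoImplicit false

namespace CF.Oc

open CF.Tb CF.Hx Subgroup
open scoped commutatorElement

variable {G : Type*} [Group G] {X : ℕ → Subgroup G} {a b c d i j k s t t' ε ε' c' : ℕ}
  {g h x y z u v w n n' κ κ' l l' : G}

/-- root group sequences of octagons -/
abbrev H8 (X : ℕ → Subgroup G) : Prop := MP 8 X

/-- the reversed sequence -/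
def rv (X : ℕ → Subgroup G) (c t : ℕ) : Subgroup G := X (c + 15 * t)

/-- central root elements -/
def V (X : ℕ → Subgroup G) (t : ℕ) : Subgroup G where
  carrier := {g | g ∈ X t ∧ ∀ s, (s + 15 * t + 4) % 16 ≤ 8 → ∀ x ∈ X s, Commute x g}
  one_mem' := ⟨one_mem _, fun _ _ _ _ => Commute.one_right _⟩
  mul_mem' := fun h h' => ⟨mul_mem h.1 h'.1, fun s e x hx => (h.2 s e x hx).mul_right (h'.2 s e x hx)⟩
  inv_mem' := fun h => ⟨inv_mem h.1, fun s e x hx => (h.2 s e x hx).inv_right⟩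

/-- the even root groups contain central elements -/
def VE (X : ℕ → Subgroup G) : Prop := ∀ t, t % 2 = 0 → ∃ v ∈ V X t, v ≠ 1

theorem refl8 (h : a % 16 ≤ 8) (e : (a + b) % 16 = 8) : b % 16 ≤ 8 := by omega

theorem V.cm (h : v ∈ V X t) (hx : x ∈ X s) (e : (s + 15 * t + 4) % 16 ≤ 8 := by omega) : Commute x v := h.2 s e x hx

theorem V.Y (h : v ∈ V X t) (hx : x ∈ Yy X a b) (e : t ≤ a + 4 ∧ b ≤ t + 5 := by omega) : Commute x v :=
  (mem_cen (a := a) (b := b) (fun s _ _ _ hy => V.cm h hy) x hx)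

theorem cj_ne (n : G) (h : v ≠ 1) : n⁻¹ * v * n ≠ 1 := fun e => h (conj_eq_one_iff.1 (by rwa [inv_inv] : n⁻¹ * v * n⁻¹⁻¹ = 1))

/-- symmetries of the sequence -/
def Sy (X : ℕ → Subgroup G) (ε c : ℕ) (g : G) : Prop :=
  (ε = 1 ∨ ε = 15) ∧ ∀ r r', r' % 16 = (c + ε * r) % 16 → ∀ x, x ∈ X r ↔ g * x * g⁻¹ ∈ X r'

namespace Sy

theorem up (h : Sy X ε c g) (hx : x ∈ X s) (e : t % 16 = (c + ε * s) % 16 := by omega) : g * x * g⁻¹ ∈ X t :=
  (h.2 s t e x).1 hx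

theorem dn (h : Sy X ε c g) (hx : x ∈ X t) (e : t % 16 = (c + ε * s) % 16 := by omega) : g⁻¹ * x * g ∈ X s :=
  (h.2 s t e _).2 (by simpa [mul_assoc] using hx)

theorem mul (h : Sy X ε c g) (h' : Sy X ε' c' n) (e d : ℕ)
    (q : (e = 1 ∨ e = 15) ∧ ∀ r, (d + e * r) % 16 = (c + ε * (c' + ε' * r)) % 16 := by
      exact ⟨by omega, fun _ => by omega⟩) : Sy X e d (g * n) :=
  ⟨q.1, fun r r' e1 x => by
    rw [h'.2 r (c' + ε' * r) rfl, h.2 _ r' (e1.trans (q.2 r))]; simp [mul_assoc]⟩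

theorem inv (h : Sy X ε c g) (d : ℕ) (q : (d + ε * c) % 16 = 0 := by omega) : Sy X ε d g⁻¹ :=
  ⟨h.1, fun r r' e1 x => by
    rw [h.2 r' r (by rcases h.1 with rfl | rfl <;> omega)]; simp [mul_assoc]⟩

theorem pow (h : Sy X 1 c g) (hX : ∀ a b, a % 16 = b % 16 → X a = X b) (k : ℕ) : Sy X 1 (k * c) (g ^ k) := by
  induction k with
  | zero => exact ⟨.inl rfl, fun r r' e x => by simp [hX r r' (by omega)]⟩
  | succ k ih => rw [pow_succ, add_mul]; exact ih.mul h _ _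

theorem V (h : Sy X ε c g) (hv : v ∈ V X s) (e : t % 16 = (c + ε * s) % 16 := by omega) : g * v * g⁻¹ ∈ V X t :=
  ⟨h.up hv.1 e, fun r q x hx => by
    have := Oc.V.cm hv (h.dn (s := ε * (r + 15 * c)) hx (by rcases h.1 with rfl | rfl <;> omega))
      (by rcases h.1 with rfl | rfl; omega; exact refl8 q (by omega))
    simpa [mul_assoc] using this.conj g⟩

theorem V' (h : Sy X ε c g) (hv : v ∈ Oc.V X t) (e : t % 16 = (c + ε * s) % 16 := by omega) : g⁻¹ * v * g ∈ Oc.V X s := by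
  simpa using (h.inv (15 * ε * c) (by rcases h.1 with rfl | rfl <;> omega)).V hv (by rcases h.1 with rfl | rfl <;> omega)

theorem Y (h : Sy X 1 0 g) (hx : x ∈ Yy X a b) : g * x * g⁻¹ ∈ Yy X a b :=
  conj_Yy (fun t _ _ _ hy => mY (h.up (t := t) hy)) hx

end Sy

/-- the elements `κ`, `λ`, `μ` -/
structure Mk (X : ℕ → Subgroup G) (t : ℕ) (κ u l n : G) : Prop where
  k : κ ∈ X (t + 8)
  m : u ∈ X t
  ne : u ≠ 1
  r : l ∈ X (t + 8)
  e : n = κ * u * l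
  s : Sy X 15 (2 * t + 8) n

namespace Mk

theorem inv (h : Mk X t κ u l n) : Mk X t l⁻¹ u⁻¹ κ⁻¹ n⁻¹ :=
  ⟨inv_mem h.r, inv_mem h.m, inv_ne_one.2 h.ne, inv_mem h.k, by rw [h.e]; group, h.s.inv _⟩

theorem cj (h : Mk X t κ u l n) (q : Sy X ε c g) (e : t' % 16 = (c + ε * t) % 16 := by omega) :
    Mk X t' (g * κ * g⁻¹) (g * u * g⁻¹) (g * l * g⁻¹) (g * n * g⁻¹) := by
  refine ⟨q.up h.k ?_, q.up h.m e, by simpa using h.ne, q.up h.r ?_, by rw [h.e]; group, ?_⟩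
  iterate 2 rcases q.1 with rfl | rfl <;> omega
  rcases q.1 with rfl | rfl
  exacts [(q.mul h.s 15 (c + 2 * t + 8)).mul (q.inv (15 * c)) _ _, (q.mul h.s 1 (c + 14 * t + 8)).mul (q.inv c) _ _]

theorem g4 (h : Mk X t κ u l n) (c : Commute κ v) : u⁻¹ * v * u = l * (n⁻¹ * v * n) * l⁻¹ := by
  rw [h.e, show l * ((κ * u * l)⁻¹ * v * (κ * u * l)) * l⁻¹ = u⁻¹ * (κ⁻¹ * v * κ) * u by group,
    c.inv_left.eq, inv_mul_cancel_right]

theorem cm (h : Mk X t κ u l n) (c : Commute κ v) (c' : Commute u v) (c'' : Commute l v) : Commute n v :=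
  h.e ▸ (c.mul_left c').mul_left c''

theorem rev (h : Mk X t κ u l n) (hX : ∀ a b, a % 16 = b % 16 → X a = X b) (e : t % 16 = (c + 15 * s) % 16 := by omega) :
    Mk (rv X c) s κ u l n :=
  ⟨(hX _ (c + 15 * (s + 8)) (by omega)).le h.k, (hX _ _ e).le h.m, h.ne,
    (hX _ (c + 15 * (s + 8)) (by omega)).le h.r, h.e, .inr rfl, fun _ _ _ => h.s.2 _ _ (by omega)⟩

end Mk

namespace H8

variable (M : H8 X)
include M

theorem eq (a b : ℕ) (h : a % 16 = b % 16) : X a = X b := per_mod M.per h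

theorem mv (hx : x ∈ X a) (h : a % 16 = b % 16 := by omega) : x ∈ X b := M.eq _ _ h ▸ hx

theorem mV (hx : x ∈ V X a) (h : a % 16 = b % 16 := by omega) : x ∈ V X b := ⟨M.mv hx.1, fun s _ => hx.2 s (by omega)⟩

theorem mk (h : Mk X t κ u l n) (e : t % 16 = s % 16 := by omega) : Mk X s κ u l n :=
  ⟨M.mv h.k, M.mv h.m, h.ne, M.mv h.r, h.e, .inr rfl, fun _ _ _ => h.s.2 _ _ (by omega)⟩

theorem ex (hu : u ∈ X t) (h0 : u ≠ 1) : ∃ κ l n, Mk X t κ u l n :=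
  let ⟨n, ⟨κ, h1, l, h2, e⟩, h3⟩ := M.mu t u hu h0
  ⟨κ, l, n, h1, hu, h0, h2, e, .inr rfl, fun _ _ _ => h3 _ _ (by omega)⟩

theorem cm (hx : x ∈ X a) (hy : y ∈ X b) (h1 : a < b := by omega) (h2 : b < a + 8 := by omega) :
    ⁅x, y⁆ ∈ Yy X (a + 1) b := M.comm a b h1 h2 x hx y hy

theorem nrm (hx : x ∈ X t) (hg : g ∈ Yy X a b) (h1 : a ≤ t + 1 := by omega) (h2 : t ≤ b := by omega)
    (h3 : b ≤ t + 8 := by omega) (h4 : t < a + 8 := by omega) : x * g * x⁻¹ ∈ Yy X a b :=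
  conj_Yy (fun s e1 e2 y hy => by
    rcases lt_trichotomy s t with e | rfl | e
    · simpa [commutatorElement_def, mul_assoc] using mul_mem (le_Yy e1 e2 hy) (mo (M.cm (inv_mem hy) hx))
    · exact le_Yy e1 e2 (mul_mem (mul_mem hx hy) (inv_mem hx))
    · simpa [commutatorElement_def] using mul_mem (mo (M.cm hx hy)) (le_Yy e1 e2 hy)) hg

theorem nri (hx : x ∈ X t) (hg : g ∈ Yy X a b) (h1 : a ≤ t + 1 := by omega) (h2 : t ≤ b := by omega)
    (h3 : b ≤ t + 8 := by omega) (h4 : t < a + 8 := by omega) : x⁻¹ * g * x ∈ Yy X a b := by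
  simpa using M.nrm (inv_mem hx) hg

theorem nrm' (hx : x ∈ Yy X c d) (h1 : a ≤ c + 1 := by omega) (h2 : d ≤ b + 1 := by omega)
    (h3 : b ≤ c + 8 := by omega) (h4 : d ≤ a + 8 := by omega) : x ∈ normalizer (Yy X a b : Set G) :=
  Yy_le (fun _ _ _ => le_norm fun _ hx _ hg => M.nrm hx hg) hx

theorem split (c : ℕ) (hg : g ∈ Yy X a b) (h1 : a ≤ c := by omega) (h2 : c ≤ b := by omega)
    (h3 : b ≤ a + 8 := by omega) : ∃ y ∈ Yy X a c, ∃ z ∈ Yy X c b, g = y * z := by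
  induction c, h1 using Nat.le_induction with
  | base => exact ⟨1, one_mem _, g, hg, (one_mul g).symm⟩
  | succ c h ih =>
    obtain ⟨y, h4, z, h5, rfl⟩ := ih (by omega)
    obtain ⟨x, h6, z, h7, rfl⟩ := M.dec (by omega) h5
    exact ⟨_, mul_mem (mo h4) (mY h6), z, h7, (mul_assoc _ _ _).symm⟩

theorem dj (h1 : g ∈ Yy X a c) (h2 : g ∈ Yy X c b) (h : b ≤ a + 8 := by omega) : g = 1 := by
  induction e : c - a generalizing a with
  | zero => exact Yy_self (by omega) h1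
  | succ k ih =>
    by_cases h3 : b ≤ c
    · exact Yy_self h3 h2
    obtain ⟨x, h4, y, h5, e1⟩ := M.dec (by omega) h1
    have := M.disj a x h4 (eq_mul_inv_of_mul_eq e1.symm ▸ mul_mem (mo h2) (inv_mem (mo h5)))
    rw [this, one_mul] at e1
    exact ih (a := a + 1) (e1 ▸ h5) (by omega) (by omega)

theorem inter (h4 : g ∈ Yy X a b) (h5 : g ∈ Yy X c d) (h1 : a ≤ c := by omega) (h2 : b ≤ d := by omega)
    (h3 : d ≤ a + 8 := by omega) : g ∈ Yy X c b := by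
  by_cases h : c ≤ b
  · obtain ⟨y, h6, z, h7, rfl⟩ := M.split c h4
    rwa [M.dj h6 ((mul_mem_cancel_right (mo h7)).1 h5), one_mul]
  · exact M.dj (mo h4 : g ∈ Yy X a c) h5 ▸ one_mem _

theorem peel (h1 : u ∈ X a) (h2 : v ∈ X a) (h3 : g ∈ Yy X b c) (h4 : h ∈ Yy X b d) (e : u * g = v * h)
    (q : a < b ∧ c ≤ a + 8 ∧ d ≤ a + 8 := by omega) : u = v ∧ g = h := by
  have := M.disj a _ (mul_mem (inv_mem h2) h1) (by
    rw [show v⁻¹ * u = h * g⁻¹ by rw [eq_mul_inv_iff_mul_eq, mul_assoc, e, inv_mul_cancel_left]]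
    exact mul_mem (mo h4) (inv_mem (mo h3)))
  obtain rfl := inv_mul_eq_one.1 this
  exact ⟨rfl, mul_left_cancel e⟩

theorem peel' (h1 : u ∈ X a) (h2 : v ∈ X a) (h3 : g ∈ Yy X b c) (h4 : h ∈ Yy X d c) (e : g * u = h * v)
    (q : c ≤ a ∧ a < b + 8 ∧ a < d + 8 := by omega) : g = h ∧ u = v := by
  have := M.disj' (min b d) a (by omega) _ (mul_mem h1 (inv_mem h2)) (by
    rw [show u * v⁻¹ = g⁻¹ * h by rw [mul_inv_eq_iff_eq_mul, mul_assoc, ← e, inv_mul_cancel_left]]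
    exact mul_mem (inv_mem (mo h3)) (mo h4))
  obtain rfl := mul_inv_eq_one.1 this
  exact ⟨mul_right_cancel e, rfl⟩

theorem rY (h1 : i + b = c + 1) (h2 : a + j = c + 1) : Yy (rv X c) a b = Yy X i j :=
  le_antisymm (Yy_le fun t _ _ _ h => mY (M.mv (a := c + 15 * t) (b := c - t) h))
    (Yy_le fun t _ _ _ h => mY (t := c - t) (M.mv (b := c + 15 * (c - t)) h))

theorem toR (h : g ∈ Yy X i j) (h1 : i + b = c + 1 := by omega) (h2 : a + j = c + 1 := by omega) :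
    g ∈ Yy (rv X c) a b := M.rY h1 h2 ▸ h

theorem ofR (h : g ∈ Yy (rv X c) a b) (h1 : i + b = c + 1 := by omega) (h2 : a + j = c + 1 := by omega) :
    g ∈ Yy X i j := M.rY h1 h2 ▸ h

theorem toX (h : g ∈ X s) (e : s % 16 = (c + 15 * t) % 16 := by omega) : g ∈ rv X c t := M.mv h e

theorem ofX (h : g ∈ rv X c t) (e : (c + 15 * t) % 16 = s % 16 := by omega) : g ∈ X s := M.mv h e

theorem toV (h : g ∈ V X s) (e : s % 16 = (c + 15 * t) % 16 := by omega) : g ∈ V (rv X c) t :=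
  ⟨M.toX h.1, fun r q _ hx => V.cm (s := c + 15 * r) h hx (refl8 q (by omega))⟩

theorem ofV (h : g ∈ V (rv X c) t) (e : (c + 15 * t) % 16 = s % 16 := by omega) : g ∈ V X s :=
  ⟨M.ofX h.1, fun r q _ hx => V.cm (s := c + 15 * r) h (M.toX hx) (refl8 q (by omega))⟩

theorem rev (c : ℕ) : H8 (rv X c) := by
  have e : ∀ k, rv X c = rv X (c + 16 * k) := fun k => funext fun t => M.eq _ _ (by omega)
  refine ⟨fun t => M.eq _ _ (by omega), fun a b h1 h2 x hx y hy => ?_, fun a x hx h => ?_, fun a b h1 x hx h => ?_,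
    fun t u hu h => ?_, fun t => M.ne _⟩
  · rw [e b]
    have := M.toR (c := c + 16 * b) (a := a + 1) (b := b)
      (M.cm (M.ofX (s := c + 16 * b - b) hy) (M.ofX (s := c + 16 * b - a) hx))
    simpa [commutatorElement_def, mul_assoc] using inv_mem this
  · rw [e (a + 1)] at h
    exact M.disj' (c + 16 * (a + 1) - a - 7) (c + 16 * (a + 1) - a) (by omega) x (M.ofX hx) (M.ofR h)
  · rcases le_or_gt b a with h2 | h2
    · exact Yy_self h2 h
    rw [e b] at h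
    exact M.disj (c + 16 * b - b) x (M.ofX hx) (mo (M.ofR (i := c + 16 * b - b + 1) (j := c + 16 * b + 1 - a) h))
  · obtain ⟨n, ⟨κ, h1, l, h2, e⟩, h3⟩ := M.mu _ u hu h
    exact ⟨n, ⟨κ, M.toX h1, l, M.toX h2, e⟩, fun r r' e x => h3 _ _ (by omega) x⟩

theorem shift (c : ℕ) : H8 fun t => X (t + c) := by
  have e : ∀ a b, Yy (fun t => X (t + c)) a b = Yy X (a + c) (b + c) := fun a b =>
    le_antisymm (Yy_le fun t _ _ _ h => mY (t := t + c) h) (Yy_le fun t _ _ _ h =>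
      mY (X := fun t => X (t + c)) (t := t - c) (M.mv (b := t - c + c) h))
  refine ⟨fun t => M.eq _ _ (by omega), fun a b h1 h2 x hx y hy => ?_, fun a x hx h => ?_, fun a b h1 x hx h => ?_,
    fun t u hu h => ?_, fun t => M.ne _⟩
  · rw [e, add_right_comm]; exact M.cm hx hy
  · rw [e, add_right_comm, add_right_comm a 8] at h; exact M.disj _ x hx h
  · rw [e] at h; exact M.disj' _ _ (by omega) x hx h
  · obtain ⟨n, ⟨κ, h1, l, h2, e⟩, h3⟩ := M.mu _ u hu h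
    exact ⟨n, ⟨κ, M.mv (b := t + 8 + c) h1, l, M.mv (b := t + 8 + c) h2, e⟩, fun r r' e x => h3 _ _ (by omega) x⟩

theorem c1 (hx : x ∈ X a) (hy : y ∈ X b) (e : b % 16 = (a + 1) % 16 := by omega) : Commute x y :=
  MP.c1 M (by omega) a x hx y (M.mv hy)

theorem lb (hx : x ∈ X a) (h0 : x ≠ 1) (hy : y ∈ Yy X (a + 1) (a + 8))
    (hg : g ∈ Yy X (a + 5) (a + 8)) (h : x * y * g * (x * y)⁻¹ ∈ Yy X (a + 4) (a + 8)) : g = 1 := by
  obtain ⟨κ, l, n, H⟩ := M.ex hx h0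
  obtain ⟨s, h4, s', h5, e1⟩ := M.split (a := a + 1) (b := a + 9) (a + 5) (mul_mem (inv_mem (mY H.r)) (mo hy))
  have h6 := conj_Yy (X' := X) (c := a + 1) (d := a + 5) (n := n⁻¹) (fun t _ _ x hx => mY
    ((H.s.inv (2 * a + 8)).up (t := 2 * a + 8 - t) hx)) (M.nrm H.k h)
  have h7 := mul_mem (mul_mem (inv_mem h4) h6) h4
  rw [show s⁻¹ * (n⁻¹ * (κ * (x * y * g * (x * y)⁻¹) * κ⁻¹) * n⁻¹⁻¹) * s = s' * g * s'⁻¹ by
    rw [eq_inv_mul_iff_mul_eq.2 e1.symm, H.e]; group] at h7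
  simpa [mul_eq_one_iff_eq_inv] using M.dj h7 (mul_mem (mul_mem h5 (mo hg)) (inv_mem h5))

theorem nc (hx : x ∈ X a) (hg : g ∈ X b) (h : Commute x g) (e : 5 ≤ (b + 15 * a) % 16 ∧ (b + 15 * a) % 16 ≤ 7 := by omega) :
    x = 1 ∨ g = 1 := or_iff_not_imp_left.2 fun h0 => by
  have := M.mv (b := a + (b + 15 * a) % 16) hg
  exact M.lb hx h0 (one_mem _) (mY this) (by rw [mul_one, h.mul_inv_cancel]; exact mY this)

theorem sh (H : Mk X t κ u l n) (hv : v ∈ X (t + 7)) (hx : x ∈ X (t + 1)) (hg : g ∈ Yy X (t + 2) (t + 8))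
    (e : u⁻¹ * v * u = x * g) : x = n⁻¹ * v * n ∧ x⁻¹ * l * x = g * l := by
  have e1 := H.g4 (M.c1 hv H.k).symm
  have e2 : n⁻¹ * v * n * 1 = x * (⁅x⁻¹, l⁻¹⁆ * (l⁻¹ * g * l)) := by
    rw [← mul_left_inj l⁻¹, ← mul_right_inj l, mul_one, ← mul_assoc, ← e1, e]; group
  have e3 := (M.peel (H.s.dn hv) hx (one_mem (Yy X (t + 2) (t + 9)))
    (mul_mem (mo (M.cm (inv_mem hx) (inv_mem H.r))) (M.nri (b := t + 9) H.r (mo hg))) e2).1
  exact ⟨e3.symm, by rw [e3, e] at e1; rw [mul_assoc, inv_mul_eq_iff_eq_mul, ← mul_assoc, e1]; group⟩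

theorem dk (k : ℕ) (H : Mk X t κ u l n) (hv : v ∈ X (t + k)) (c : Commute κ v) (e : 5 ≤ k ∧ k ≤ 7 := by omega) :
    ∃ g ∈ Yy X (t + 9 - k) (t + k), u⁻¹ * v * u = n⁻¹ * v * n * g * v := by
  have h1 := H.s.dn (s := t + 8 - k) hv
  refine ⟨(n⁻¹ * v * n)⁻¹ * ⁅u⁻¹, v⁆, M.inter (a := t + 1) (d := t + 8)
    (mul_mem (inv_mem (mY h1)) (M.cm (inv_mem H.m) hv)) ?_, by group⟩
  have := mul_mem (mo (M.cm (inv_mem h1) H.r) : _ ∈ Yy X (t + 9 - k) (t + 8)) (inv_mem (mY hv))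
  rwa [show ⁅(n⁻¹ * v * n)⁻¹, l⁆ = (n⁻¹ * v * n)⁻¹ * (l * (n⁻¹ * v * n) * l⁻¹) by group, ← H.g4 c,
    show ∀ a : G, a * (u⁻¹ * v * u) * v⁻¹ = a * ⁅u⁻¹, v⁆ from fun _ => by group] at this

theorem dk' (k : ℕ) (H : Mk X (t + k) κ u l n) (hv : v ∈ X t) (c : Commute l v) (e : 5 ≤ k ∧ k ≤ 7 := by omega) :
    ∃ g ∈ Yy X (t + 1) (t + 2 * k - 8), u * v * u⁻¹ = n * v * n⁻¹ * g * v := by
  obtain ⟨g, h1, h2⟩ := (M.rev (t + k)).dk (t := 0) k (H.inv.rev M.eq) (M.toX hv) c.inv_left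
  exact ⟨g, M.ofR h1, by simpa using h2⟩

theorem uq (H : Mk X t κ u l n) (H' : Mk X t κ' u l' n') : κ = κ' ∧ l = l' ∧ n = n' := by
  have key : ∀ {κ u l n κ' l' n' : G}, Mk X t κ u l n → Mk X t κ' u l' n' → l = l' := fun {κ u l n κ' l' n'} H H' => by
    obtain ⟨v, h1, h2⟩ := M.ne (t + 7)
    obtain ⟨g, h3, e⟩ := M.dk 7 H h1 (M.c1 h1 H.k).symm
    have h4 := H.s.dn (s := t + 1) h1
    rw [mul_assoc _ g] at e
    have e1 := (M.sh H h1 h4 (mul_mem (mo h3) (mY h1)) e).2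
    have e2 := (M.sh H' h1 h4 (mul_mem (mo h3) (mY h1)) e).2
    have h5 := cj_ne n h2
    generalize n⁻¹ * v * n = x at *
    refine (inv_mul_eq_one.1 ((M.nc h4 (mul_mem (inv_mem H'.r) H.r) ?_).resolve_left h5)).symm
    rw [commute_iff_eq, ← inv_mul_eq_iff_eq_mul.1 (show x⁻¹ * (l'⁻¹ * l * x) = l'⁻¹ * l by
      rw [show x⁻¹ * (l'⁻¹ * l * x) = (x⁻¹ * l' * x)⁻¹ * (x⁻¹ * l * x) by group, e1, e2]; group)]
  have h1 := key H H'
  have h2 := inv_injective (key H.inv H'.inv)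
  exact ⟨h2, h1, by rw [H.e, H'.e, h1, h2]⟩

theorem right (H : Mk X t κ u l n) : Mk X (t + 8) u l (n⁻¹ * κ * n) n := by
  refine ⟨M.mv H.m, H.r, fun e => ?_, H.s.dn H.k, by rw [H.e]; group, .inr rfl, fun _ _ _ => H.s.2 _ _ (by omega)⟩
  obtain ⟨v, h1, h2⟩ := M.ne (t + 1)
  refine h2 (M.peel h1 (one_mem _) (M.cm (inv_mem h1) H.k) (mY (a := t + 2) (b := t + 8) (H.s.up (t := t + 7) h1)) ?_).1
  rw [H.e, e, mul_one, mul_assoc κ, (M.c1 H.m h1).eq]; group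

theorem left (H : Mk X t κ u l n) : Mk X (t + 8) (n * l * n⁻¹) κ u n := by simpa [mul_assoc] using (M.right H.inv).inv

theorem self (H : Mk X t κ u l n) : Mk X (t + 8) (n * κ * n⁻¹) (n * u * n⁻¹) (n * l * n⁻¹) n := by
  simpa using H.cj (t' := t + 8) H.s

theorem g2 (H : Mk X t κ u l n) (hz : z ∈ X s) (c : Commute u z) (e : (s + 15 * t) % 16 = 4 ∨ (s + 15 * t) % 16 = 12 := by omega) :
    Commute κ z ∧ Commute l z ∧ Commute n z := by
  have key : ∀ {X : ℕ → Subgroup G} {t κ u l n}, H8 X → Mk X t κ u l n → z ∈ X (t + 4) → Commute u z → Commute l z :=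
    fun {X t κ u l n} M H hz c => by
      have h1 := M.cm (inv_mem hz) H.r
      have := M.lb H.m H.ne (one_mem _) h1 (by
        have := mul_mem (inv_mem (mY hz)) (M.nri (a := t + 4) (b := t + 8) H.k (mY (H.s.up (t := t + 4) hz)))
        rw [H.e, show z⁻¹ * (κ⁻¹ * (κ * u * l * z * (κ * u * l)⁻¹) * κ) = z⁻¹ * u * z * ⁅z⁻¹, l⁆ * (u * 1)⁻¹ by group,
          ← c.inv_right.eq, inv_mul_cancel_right] at this; rwa [mul_one] at this ⊢)
      exact (Commute.inv_left_iff.1 (commutatorElement_eq_one_iff_commute.1 this)).symm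
  have k2 : ∀ {κ u l n}, Mk X t κ u l n → Commute u z → Commute l z := fun H c => by
    rcases (by omega : s % 16 = (t + 4) % 16 ∨ s % 16 = (t + 15 * 4) % 16) with e | e
    exacts [key M H (M.mv hz) c, key (t := 0) (M.rev t) (H.rev M.eq) (M.toX hz) c]
  have h1 := Commute.inv_left_iff.1 (k2 H.inv c.inv_left)
  exact ⟨h1, k2 H c, H.cm h1 c (k2 H c)⟩

theorem toV' (hz : z ∈ X (a + 4)) (h : ∀ s, a < s → s < a + 8 → ∀ x ∈ X s, Commute x z)
    (h' : (∀ x ∈ X a, Commute x z) ∨ ∀ x ∈ X (a + 8), Commute x z) : z ∈ V X (a + 4) := by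
  have key : ∀ {a b}, (b + 8) % 16 = a % 16 → z ∈ X (b + 4) ∨ z ∈ X (b + 12) →
      (∀ x ∈ X a, Commute x z) → ∀ x ∈ X b, Commute x z := fun {a b} _ hz h x hx => by_contra fun e => by
    obtain ⟨κ, l, n, H⟩ := M.ex hx (by rintro rfl; exact e (Commute.one_left _))
    exact e (hz.elim (fun hz => (M.g2 (M.left H) hz (h κ (M.mv H.k))).2.1) fun hz =>
      (M.g2 (M.left H) hz (h κ (M.mv H.k))).2.1)
  obtain ⟨h1, h2⟩ : (∀ x ∈ X a, Commute x z) ∧ ∀ x ∈ X (a + 8), Commute x z :=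
    h'.elim (fun h => ⟨h, key (by omega) (.inr (M.mv hz)) h⟩) fun h => ⟨key rfl (.inl hz) h, h⟩
  refine ⟨hz, fun s e x hx => ?_⟩
  rcases (by omega : (s + 15 * a) % 16 = 0 ∨ (s + 15 * a) % 16 = 8 ∨ 0 < (s + 15 * a) % 16 ∧ (s + 15 * a) % 16 < 8)
    with q | q | q
  exacts [h1 x (M.mv hx), h2 x (M.mv hx), h (a + (s + 15 * a) % 16) (by omega) (by omega) x (M.mv hx)]

theorem zl (hz : z ∈ Yy X a (a + 8)) (h : ∀ x ∈ X (a + 5), Commute x z) : z ∈ Yy X (a + 1) (a + 8) := by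
  obtain ⟨x, h1, y, h2, rfl⟩ := M.dec le_rfl hz
  by_cases e : x = 1
  · rwa [e, one_mul]
  obtain ⟨u, h3, h4⟩ := M.ne (a + 5)
  refine absurd (M.lb h1 e h2 (mY h3) ?_) h4
  rw [← (h u h3).eq, mul_inv_cancel_right]; exact mY h3

theorem zl3 (hz : z ∈ Yy X a (a + 8)) (h : ∀ s, a ≤ s → s < a + 8 → ∀ x ∈ X s, Commute x z) :
    z ∈ Yy X (a + 3) (a + 8) := by
  have h1 := M.zl hz (h _ (by omega) (by omega))
  have h2 := M.inter h1 (M.zl (a := a + 1) (mo h1) (h _ (by omega) (by omega)))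
  exact M.inter h2 (M.zl (a := a + 2) (mo h2) (h _ (by omega) (by omega)))

theorem zz (hz : z ∈ Yy X a (a + 8)) (h : ∀ s, a ≤ s → s < a + 8 → ∀ x ∈ X s, Commute x z) :
    z ∈ Yy X (a + 3) (a + 5) :=
  M.inter (a := a) (M.ofR ((M.rev (a + 7)).zl3 (a := 0) (M.toR hz) fun s _ _ x hx =>
    h (a + 7 - s) (by omega) (by omega) x (M.ofX hx))) (M.zl3 hz h)

theorem nil (a : ℕ) : Group.IsNilpotent (X (a + 6)) := by
  obtain ⟨τ, h1, h2⟩ := M.ne (a + 7)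
  choose! y hy f hf e using fun g (hg : g ∈ Yy X a (a + 7)) => M.split (a + 6) (M.nrm h1 hg)
  have key : ∀ g ∈ Yy X a (a + 7), ∀ x ∈ X (a + 6), τ * g * τ⁻¹ * x⁻¹ ∈ Yy X a (a + 6) → f g = x := fun g hg x hx h =>
    mul_inv_eq_one.1 (M.dj (by rw [e g hg, mul_assoc] at h; exact (mul_mem_cancel_left (hy g hg)).1 h)
      (mul_mem (hf g hg) (inv_mem (mY hx))))
  let φ : Yy X a (a + 7) →* X (a + 6) := MonoidHom.mk' (fun g => ⟨f g, Yy_one (hf g g.2)⟩) fun g g' =>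
    Subtype.ext (key _ (g * g').2 _ (mul_mem (Yy_one (hf g g.2)) (Yy_one (hf g' g'.2))) (by
      have := mul_mem (hy g g.2) (M.nrm (Yy_one (hf g g.2)) (hy g' g'.2))
      rwa [show τ * ↑(g * g') * τ⁻¹ = τ * g * τ⁻¹ * (τ * g' * τ⁻¹) by simp [mul_assoc], e g g.2, e g' g'.2, coe_mul,
        show ∀ a b c d : G, a * b * (c * d) * (b * d)⁻¹ = a * (b * c * b⁻¹) from fun _ _ _ _ => by group]))
  have f1 : ∀ x : X (a + 6), φ ⟨x, mY x.2⟩ = x := fun x => Subtype.ext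
    (key _ (mY x.2) _ x.2 (by simp [← (M.c1 x.2 h1).eq]))
  have f2 : ∀ x : X (a + 6), ∃ g, ∃ hg : g ∈ X a, φ ⟨g, mY hg⟩ = x := fun x => by
    obtain ⟨κ, l, n, H⟩ := M.ex h1 h2
    have h5 := H.s.dn (s := a) x.2
    obtain ⟨g, h3, e⟩ := M.dk' 7 H h5 (M.c1 H.r h5)
    refine ⟨_, h5, Subtype.ext (key _ (mY h5) _ x.2 ?_)⟩
    rw [e]; simpa [mul_assoc] using M.nrm x.2 (mul_mem (mo h3) (mY (a := a) (b := a + 6) h5))
  have f4 : ∀ k ≤ 6, ∀ g : Yy X a (a + 7), ↑g ∈ Yy X (a + 6 - k) (a + 6) → φ g ∈ Subgroup.upperCentralSeries _ k := by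
    intro k hk g hg
    induction k generalizing g with
    | zero => rw [show g = 1 from Subtype.ext (Yy_self (by omega) hg), map_one]; exact one_mem _
    | succ k ih =>
      obtain ⟨_, h3, e⟩ := Yy_le (Z := ((Subgroup.upperCentralSeries _ (k + 1)).comap φ).map (Subgroup.subtype _))
        (fun t _ _ x hx => ⟨⟨x, mY hx⟩, Subgroup.mem_upperCentralSeries_succ_iff.2 fun u => by
          rw [← f1 u, ← map_commutatorElement]
          exact ih (by omega) _ (mo (M.cm hx u.2)), rfl⟩) hg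
      exact Subtype.ext e ▸ h3
  refine ⟨6, eq_top_iff.2 fun x _ => ?_⟩
  obtain ⟨u, hu, rfl⟩ := f2 x
  exact f4 6 le_rfl _ (mY hu)

variable [Finite G]

theorem nilY (k : ℕ) (hk : k ≤ 7) (a : ℕ) : Group.IsNilpotent (Yy X a (a + k + 1)) := by
  induction k generalizing a with
  | zero => rw [show Yy X a (a + 0 + 1) = X (a + 10 + 6) from le_antisymm (fun _ h => M.mv (Yy_one h))
      fun _ h => mY (M.mv (b := a) h)]; exact M.nil _
  | succ k ih =>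
    haveI := ih (by omega) a
    haveI := ih (by omega) (a + 1)
    rw [show Yy X a (a + (k + 1) + 1) = Yy X a (a + k + 1) ⊔ Yy X (a + 1) (a + 1 + k + 1) from le_antisymm
      (Yy_le fun t _ _ => (le_or_gt t a).elim (fun _ => le_sup_of_le_left fun _ h => mY h)
        fun _ => le_sup_of_le_right fun _ h => mY h) (sup_le (fun _ h => mo h) fun _ h => mo h)]
    exact CF.Solv.isNilpotent_sup_of_le_normalizer (fun _ h => M.nrm' h) fun _ h => M.nrm' h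

theorem exZ (a : ℕ) : (∃ t, ∃ y ∈ V X t, y ≠ 1) ∨ ∃ x ∈ X (a + 4), ∃ y ∈ X (a + 5), x ≠ 1 ∧ y ≠ 1 ∧
    x * y ∈ centralizer (Yy X (a + 1) (a + 9) : Set G) := by
  haveI := M.nilY 7 le_rfl (a + 1)
  obtain ⟨u, h1, h2⟩ := M.ne (a + 1)
  haveI : Nontrivial (Yy X (a + 1) (a + 1 + 7 + 1)) := ⟨⟨u, mY h1⟩, 1, by simpa using h2⟩
  obtain ⟨⟨⟨z, h3⟩, h4⟩, h5⟩ := ne_bot_iff_exists_ne_one.1
    (Group.IsNilpotent.center_ne_bot (G := Yy X (a + 1) (a + 1 + 7 + 1)))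
  have h6 : ∀ s, a + 1 ≤ s → s < a + 9 → ∀ x ∈ X s, Commute x z := fun s _ _ x hx =>
    congrArg Subtype.val (mem_center_iff.1 h4 ⟨x, mY hx⟩)
  obtain ⟨x, h10, y, h11, rfl⟩ := M.dec (by omega) (M.zz h3 h6)
  replace h11 := Yy_one h11
  replace h5 : x * y ≠ 1 := fun e => h5 (Subtype.ext (Subtype.ext e))
  by_cases e : x = 1
  · rw [e, one_mul] at h5 h6
    exact .inl ⟨_, y, M.toV' h11 (fun s _ => h6 s (by omega)) (.inl (h6 _ le_rfl (by omega))), h5⟩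
  by_cases e' : y = 1
  · rw [e', mul_one] at h5 h6
    exact .inl ⟨_, x, M.toV' h10 (fun s _ _ => h6 s ‹_› (by omega)) (.inr (h6 _ (by omega) (by omega))), h5⟩
  exact .inr ⟨x, h10, y, h11, e, e', mem_cen h6⟩

theorem exV : ∃ t, ∃ y ∈ V X t, y ≠ 1 := by
  obtain h | ⟨x, h1, y, h2, h3, -, h4⟩ := M.exZ 0
  · exact h
  obtain h | ⟨z, h5, w, h6, -, h7, h8⟩ := M.exZ 4
  · exact h
  have h9 : x * y ∈ Yy X 4 6 := mul_mem (mY h1) (mY h2)
  have h10 : z * w ∈ Yy X 8 10 := mul_mem (mY h5) (mY h6)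
  have h11 : ⁅x * y, z * w⁆ ∈ centralizer (Yy X 2 9 : Set G) := by
    simpa [commutatorElement_def, mul_assoc] using mul_mem (cen_mo h4) (conj_cen (M.nrm' h10) (inv_mem (cen_mo h4)))
  have h12 : ⁅x * y, z * w⁆ ∈ centralizer (Yy X 5 12 : Set G) :=
    mul_mem (conj_cen (M.nrm' h9) (cen_mo h8)) (inv_mem (cen_mo h8))
  have h13 : ∀ s, 2 ≤ s → s < 12 → ∀ g ∈ X s, Commute g ⁅x * y, z * w⁆ := fun s _ _ x hx =>
    (le_or_gt 5 s).elim (fun e => cen_X h12 hx) fun e => cen_X h11 hx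
  have h14 : ⁅x * y, z * w⁆ ∈ Yy X 4 10 :=
    mul_mem (mul_mem (mul_mem (mo h9) (mo h10)) (inv_mem (mo h9))) (inv_mem (mo h10))
  have h15 := M.dj (M.zz (a := 2) (mo h14) fun s _ _ => h13 s ‹_› (by omega))
    (M.zz (a := 4) (mo h14) fun s _ _ => h13 s (by omega) ‹_›)
  have h16 := ((cen_X h4 h5).symm.inv_right.mul_right (commutatorElement_eq_one_iff_commute.1 h15)).symm
  rw [inv_mul_cancel_left] at h16
  obtain ⟨κ, l, n, H⟩ := M.ex h6 h7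
  have h17 := (H.cm (cen_X h4 (M.mv (b := 1) H.k)) h16 (cen_X h4 (M.mv (b := 1) H.r))).mul_inv_cancel
  rw [← conj_mul] at h17
  exact absurd (M.peel h1 (one_mem _) (mY (a := 5) (b := 7) h2) (mul_mem (mY (b := 7) (H.s.up (t := 6) h1))
    (mY (H.s.up (t := 5) h2))) (by rw [h17, one_mul])).1 h3

theorem octVE : VE X ∨ VE fun t => X (t + 1) := by
  obtain ⟨t, y, h1, h2⟩ := M.exV
  have key : ∀ s, (s + t) % 2 = 0 → ∃ v ∈ V X s, v ≠ 1 := fun s _ => by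
    obtain ⟨u, h3, h4⟩ := M.ne ((s + t) / 2 + 4)
    obtain ⟨κ, l, n, H⟩ := M.ex h3 h4
    exact ⟨_, H.s.V h1, by simpa using h2⟩
  rcases Nat.mod_two_eq_zero_or_one t with e | e
  · exact .inl fun s _ => key s (by omega)
  · exact .inr fun s _ => let ⟨v, h3, h4⟩ := key (s + 1) (by omega)
      ⟨v, ⟨h3.1, fun r _ => h3.2 (r + 1) (by omega)⟩, h4⟩

end H8

end CF.Oc
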