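import Cfsg.Agent.Mp.OA

/-! Moufang octagons: the central root subgroups and the odd root groups. -/

set_option autoImplicit false

namespace CF.Oc

open CF.Tb CF.Hx Subgroup
open scoped commutatorElement

variable {G : Type*} [Group G] {X : ℕ → Subgroup G} {a b c d i j k r s t p : ℕ}
  {g h x y z u v w n n' κ κ' l l' w' u' y' : G}

theorem cj_mul (h : Commute u' w) (e : u⁻¹ * v * u = w * v) (e' : u'⁻¹ * v * u' = w' * v) :
    (u * u')⁻¹ * v * (u * u') = w * w' * v := by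
  rw [show (u * u')⁻¹ * v * (u * u') = u'⁻¹ * (u⁻¹ * v * u) * u' by group, e, ← mul_assoc, h.inv_left.eq, mul_assoc,
    mul_assoc, ← mul_assoc u'⁻¹, e', mul_assoc]

theorem cj_mul' (h : Commute y w') (e : u⁻¹ * y * u = w * y) (e' : u⁻¹ * y' * u = w' * y') :
    u⁻¹ * (y * y') * u = w * w' * (y * y') := by
  rw [show u⁻¹ * (y * y') * u = u⁻¹ * y * u * (u⁻¹ * y' * u) by group, e, e', mul_assoc, ← mul_assoc y, h.eq]; group

theorem cj_cj (h : G) (e : u⁻¹ * v * u = w) : (h * u * h⁻¹)⁻¹ * (h * v * h⁻¹) * (h * u * h⁻¹) = h * w * h⁻¹ := by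
  rw [← e]; group

theorem cj_eq (h : Commute u v) : u⁻¹ * v * u = v := by rw [h.inv_left.eq, inv_mul_cancel_right]

theorem of_cj (h : u⁻¹ * v * u = v) : Commute u v := by rw [commute_iff_eq]; nth_rw 1 [← h]; group

theorem cj_sw (hu : u * u = 1) (hx : x * x = 1) (h : Commute u w) (e : x⁻¹ * u * x = w * u) : u⁻¹ * x * u = w * x := by
  rw [inv_eq_of_mul_eq_one_right hx] at e
  rw [inv_eq_of_mul_eq_one_right hu, ← mul_left_inj x, mul_assoc, mul_assoc, ← mul_assoc x, e, ← mul_assoc, h.eq,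
    mul_assoc, mul_assoc, hu, hx]

namespace H8

variable (M : H8 X)
include M

theorem invol (H : Mk X t κ u l n) (e : u * u = 1) : κ = l⁻¹ ∧ n⁻¹ = n := by
  have := H.inv
  rw [inv_eq_of_mul_eq_one_right e] at this
  exact ⟨(M.uq H this).1, (M.uq H this).2.2.symm⟩

theorem uq3 {b b' x' : G} (h1 : x ∈ X t) (h2 : b ∈ X (t + 1)) (h3 : g ∈ Yy X (t + 2) (t + 8)) (k1 : x' ∈ X t)
    (k2 : b' ∈ X (t + 1)) (k3 : h ∈ Yy X (t + 2) (t + 8)) (e : x * b * g = x' * b' * h) : x = x' ∧ b = b' ∧ g = h := by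
  rw [mul_assoc, mul_assoc] at e
  obtain ⟨rfl, e1⟩ := M.peel (b := t + 1) (c := t + 8) (d := t + 8) h1 k1 (mul_mem (mY h2) (mo h3))
    (mul_mem (mY k2) (mo k3)) e
  exact ⟨rfl, M.peel h2 k2 h3 k3 e1⟩

theorem v6 (hu : u ∈ V X t) (hv : v ∈ V X (t + 6)) : ∃ w ∈ V X (t + 2), ∃ b ∈ X (t + 3), ∃ w' ∈ V X (t + 4),
    u⁻¹ * v * u = w * b * w' * v ∧ (∀ κ l n, Mk X t κ u l n → w = n⁻¹ * v * n) ∧
      ∀ κ l n, Mk X (t + 6) κ v l n → w' = n * u * n⁻¹ := by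
  by_cases e : u = 1
  · exact ⟨1, one_mem _, 1, one_mem _, 1, one_mem _, by simp [e], fun _ _ _ H => absurd e H.ne, by simp [e]⟩
  by_cases e' : v = 1
  · exact ⟨1, one_mem _, 1, one_mem _, 1, one_mem _, by simp [e'], by simp [e'], fun _ _ _ H => absurd e' H.ne⟩
  obtain ⟨κ, l, n, H⟩ := M.ex hu.1 e
  obtain ⟨κ', l', n', H'⟩ := M.ex hv.1 e'
  obtain ⟨g, h1, e1⟩ := M.dk 6 H hv.1 (V.cm hv H.k)
  obtain ⟨g', h2, e2⟩ := M.dk' 6 H' hu.1 (V.cm hu H'.r)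
  have h3 := H.s.V' (s := t + 2) hv
  have h4 := H'.s.V (t := t + 4) hu
  have e3 : n⁻¹ * v * n * g = g' * (n' * u * n'⁻¹) := by
    rw [← mul_left_inj v, ← e1, (V.Y h4 h2).eq, ← cj_eq ((V.cm hu h4.1).mul_left (V.Y hu h2)).symm, mul_assoc u⁻¹,
      mul_assoc u⁻¹, ← e2]; group
  refine ⟨_, h3, g * (n' * u * n'⁻¹)⁻¹, Yy_one (M.inter (a := t + 1) (d := t + 6) ?_
    (mul_mem h1 (inv_mem (mY h4.1)))), _, h4, by rw [e1]; group, fun _ _ _ H2 => by rw [(M.uq H H2).2.2],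
    fun _ _ _ H2 => by rw [(M.uq H' H2).2.2]⟩
  rw [show g * (n' * u * n'⁻¹)⁻¹ = (n⁻¹ * v * n)⁻¹ * g' by rw [eq_inv_mul_iff_mul_eq, ← mul_assoc, e3]; group]
  exact mul_mem (inv_mem (mY h3.1)) h2

theorem v6m {b b' w1 w2 w3 w4 : G} (h1 : w1 ∈ V X (t + 2)) (h2 : w2 ∈ V X (t + 4)) (h3 : w3 ∈ V X (t + 2))
    (hb : b ∈ X (t + 3)) (hb' : b' ∈ X (t + 3)) : w1 * b * w2 * (w3 * b' * w4) = w1 * w3 * (b * b') * (w2 * w4) := by
  simp only [mul_assoc, (V.cm h3 h2.1).left_comm, (V.cm h3 hb).left_comm, (V.cm h2 hb').symm.left_comm]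

theorem v6c {b w1 w2 : G} (h1 : w1 ∈ V X (t + 2)) (hb : b ∈ X (t + 3)) (h2 : w2 ∈ V X (t + 4)) (hu : u ∈ V X s)
    (e : s = t ∨ s = t + 6 := by omega) : Commute u (w1 * b * w2) :=
  (((V.cm hu h1.1).mul_left (V.cm hu hb)).mul_left (V.cm hu h2.1)).symm

theorem cardV (e : s % 2 = t % 2) : Nat.card (V X s) = Nat.card (V X t) := by
  obtain ⟨u, h3, h4⟩ := M.ne ((s + t) / 2 + 4)
  obtain ⟨κ, l, n, H⟩ := M.ex h3 h4
  exact Nat.card_congr ⟨fun v => ⟨_, H.s.V v.2⟩, fun v => ⟨_, H.s.V' v.2⟩, fun v => by simp [mul_assoc],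
    fun v => by simp [mul_assoc]⟩

variable (E : VE X)
include E

theorem vrev (c : ℕ) (e : c % 2 = 0 := by omega) : VE (rv X c) := fun t _ =>
  let ⟨v, h1, h2⟩ := E (c + 15 * t) (by omega); ⟨v, M.toV h1, h2⟩

theorem exp2 (hv : v ∈ V X t) (e : t % 2 = 0 := by omega) : v * v = 1 := by
  replace hv := M.mV (b := t + 10 + 6) hv
  generalize t + 10 = s, (by omega : (t + 10) % 2 = 0) = e at hv
  obtain ⟨u, hu, h0⟩ := E s e
  obtain ⟨κ, l, n, H⟩ := M.ex hu.1 h0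
  have key : ∀ v ∈ V X (s + 6), n * n * v * (n * n)⁻¹ = v⁻¹ := fun v hv => by
    obtain ⟨w, h1, b, h2, w', h3, e1, e2, -⟩ := M.v6 hu hv
    obtain ⟨w2, k1, b2, k2, w2', k3, e3, e4, -⟩ := M.v6 (inv_mem hu) hv
    have := cj_mul (M.v6c h1 h2 h3 (inv_mem hu)) e1 e3
    rw [M.v6m h1 h3 k1 h2 k2, mul_inv_cancel, inv_one, one_mul, mul_one, eq_comm, mul_eq_right] at this
    have e5 := (M.uq3 (mul_mem h1.1 k1.1) (mul_mem h2 k2) (mY (mul_mem h3.1 k3.1)) (one_mem _) (one_mem _) (one_mem _)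
      (by rw [this]; simp)).1
    rw [e2 _ _ _ H, e4 _ _ _ H.inv] at e5
    rw [eq_inv_iff_mul_eq_one, mul_eq_one_comm, show v * (n * n * v * (n * n)⁻¹) = n * (n⁻¹ * v * n * (n⁻¹⁻¹ * v * n⁻¹)) * n⁻¹
      by group, e5]; group
  by_contra h5
  obtain ⟨κ', l', n', H'⟩ := M.ex hv.1 (by rintro rfl; exact h5 (mul_one _))
  have S : Sy X 1 0 (n * n) := H.s.mul H.s _ _
  obtain ⟨w, h1, b, h2, w', h3, e1, -, e2⟩ := M.v6 hu hv
  obtain ⟨w2, k1, b2, k2, w2', k3, e3, -, e4⟩ := M.v6 (S.V (t := s) hu) hv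
  have h6 := H.cm (V.cm h3 H.k) (V.cm h3 H.m) (V.cm h3 H.r)
  have e5 := cj_cj (n * n) e1
  rw [← conj_mul, ← conj_mul, ← conj_mul, key v hv, (h6.mul_left h6).mul_inv_cancel] at e5
  have := cj_mul' (M.v6c (S.V h1) (S.up h2) h3 hv) e3 e5
  rw [M.v6m k1 k3 (S.V h1) k2 (S.up h2), mul_inv_cancel, mul_one, inv_mul_cancel, mul_one] at this
  have e6 := (M.uq3 (one_mem _) (one_mem _) (one_mem _) (mul_mem k1.1 (S.V h1).1) (mul_mem k2 (S.up h2))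
    (mY (mul_mem k3.1 h3.1)) (by rw [← this]; simp)).2.2
  rw [e2 _ _ _ H', e4 _ _ _ H', conj_mul, eq_comm, conj_eq_one_iff, mul_eq_one_iff_eq_inv] at e6
  have H2 := H.cj (t' := s) S
  rw [e6] at H2
  have e7 := (M.uq H2 H.inv).2.2
  rw [show n * n * n * (n * n)⁻¹ = n by group, eq_inv_iff_mul_eq_one] at e7
  exact h5 (by simpa [e7, eq_inv_iff_mul_eq_one] using key v hv)

theorem vo (hu : u ∈ V X s) (e : s % 2 = 1 := by omega) : u = 1 := by_contra fun h0 => by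
  obtain ⟨y, hy, h1⟩ := E (s + 5) (by omega)
  obtain ⟨κ, l, n, H⟩ := M.ex hu.1 h0
  obtain ⟨κ', l', n', H'⟩ := M.ex hy.1 h1
  obtain ⟨g, h2, e1⟩ := M.dk 5 H hy.1 (V.cm hy H.k)
  obtain ⟨g', h3, e2⟩ := M.dk' 5 H' hu.1 (V.cm hu H'.r)
  have h4 := H.s.dn (s := s + 3) hy.1
  have h5 : n' * u * n'⁻¹ * g' ∈ Yy X (s + 1) (s + 3) := mul_mem (mY (H'.s.up (t := s + 2) hu.1)) (mo h3)
  have e3 : n⁻¹ * y * n * g = n' * u * n'⁻¹ * g' := by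
    rw [← mul_left_inj y, ← e1, ← cj_eq (V.Y hu h5).symm, mul_assoc u⁻¹, mul_assoc u⁻¹, ← e2]; group
  exact cj_ne n h1 (M.peel h4 (one_mem _) h2 (one_mem (Yy X (s + 4) (s + 5)))
    (by rw [M.dj (b := s + 5) (e3 ▸ h5) (mul_mem (mY h4) (mo h2)), one_mul])).1

variable [Finite G]

omit E in
theorem tr (hy : y ∈ V X (t + 6)) (h0 : y ≠ 1) (hw : w ∈ V X (t + 2)) (h1 : w ≠ 1) :
    ∃ u ∈ V X t, ∃ κ l n, Mk X t κ u l n ∧ n⁻¹ * y * n = w := by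
  choose A hA B hB C hC e e1 _ using fun u : V X t => M.v6 u.2 hy
  let f : V X t →* V X (t + 2) := MonoidHom.mk' (fun u => ⟨A u, hA u⟩) fun u v => Subtype.ext (by
    have := cj_mul (M.v6c (hA u) (hB u) (hC u) v.2) (e u) (e v)
    rw [M.v6m (hA u) (hC u) (hA v) (hB u) (hB v), ← coe_mul, e, mul_left_inj] at this
    exact (M.uq3 (hA _).1 (hB _) (mY (hC _).1) (mul_mem (hA u).1 (hA v).1) (mul_mem (hB u) (hB v))
      (mY (mul_mem (hC u).1 (hC v).1)) this).1)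
  have h2 : Function.Injective f := (injective_iff_map_eq_one f).2 fun u q => Subtype.ext (by_contra fun q' => by
    obtain ⟨κ, l, n, H⟩ := M.ex u.2.1 q'
    exact cj_ne n h0 ((e1 u _ _ _ H).symm.trans (congrArg Subtype.val q)))
  obtain ⟨u, q⟩ := (h2.bijective_of_nat_card_le (M.cardV (by omega)).le).2 ⟨w, hw⟩
  obtain ⟨κ, l, n, H⟩ := M.ex u.2.1 fun q' => h1 (by rw [show u = 1 from Subtype.ext q', map_one] at q; exact (congrArg Subtype.val q).symm)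
  exact ⟨u, u.2, κ, l, n, H, (e1 u _ _ _ H).symm.trans (congrArg Subtype.val q)⟩

theorem tor2 (hw : w ∈ V X (t + 2)) (h0 : w ≠ 1) (hw' : w' ∈ V X (t + 2)) (h1 : w' ≠ 1) (e : t % 2 = 0 := by omega) :
    ∃ h, Sy X 1 0 h ∧ h * w * h⁻¹ = w' ∧ ∀ z ∈ X (t + 4), Commute h z := by
  obtain ⟨y, hy, h2⟩ := E (t + 6) (by omega)
  obtain ⟨u, hu, κ, l, n, H, rfl⟩ := M.tr hy h2 hw h0
  obtain ⟨u', hu', κ', l', n', H', rfl⟩ := M.tr hy h2 hw' h1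
  exact ⟨n'⁻¹ * n, H'.inv.s.mul H.s _ _, by group, fun z hz => (M.g2 H' hz (V.cm hu' hz).symm).2.2.inv_left.mul_left
    (M.g2 H hz (V.cm hu hz).symm).2.2⟩

omit E [Finite G] in
theorem o5a (hu : u ∈ X s) (hy : y ∈ V X (s + 5)) : ∃ w ∈ V X (s + 3), ∃ b ∈ X (s + 4), u⁻¹ * y * u = w * b * y ∧
    (∀ κ l n, Mk X s κ u l n → w = n⁻¹ * y * n) ∧ ∀ r, s < r → r < s + 8 → ∀ x ∈ X r, Commute x b := by
  by_cases e : u = 1
  · exact ⟨1, one_mem _, 1, one_mem _, by simp [e], fun _ _ _ H => absurd e H.ne, by simp⟩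
  obtain ⟨κ, l, n, H⟩ := M.ex hu e
  obtain ⟨g, h1, e1⟩ := M.dk 5 H hy.1 (V.cm hy H.k)
  have h2 := H.s.V' (s := s + 3) hy
  refine ⟨_, h2, g, Yy_one h1, e1, fun _ _ _ H2 => by rw [(M.uq H H2).2.2], fun r _ _ x hx => ?_⟩
  have := (V.Y hy (M.nrm (a := s + 1) (b := s + 8) hu (mY hx))).conj u⁻¹
  rw [inv_inv, e1, show u⁻¹ * (u * x * u⁻¹) * u = x by group] at this
  simpa [mul_assoc] using ((V.cm h2 hx).inv_right.mul_right this).mul_right (V.cm hy hx).inv_right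

theorem o5 (hu : u ∈ X s) (hy : y ∈ V X (s + 5)) (e : s % 2 = 1 := by omega) : ∃ w ∈ V X (s + 3), u⁻¹ * y * u = w * y ∧
    ∀ κ l n, Mk X s κ u l n → w = n⁻¹ * y * n := by
  by_cases h0 : y = 1
  · exact ⟨1, one_mem _, by simp [h0], by simp [h0]⟩
  choose! W hW B hB e1 e2 e3 using fun u (hu : u ∈ X s) => M.o5a hu hy
  suffices ∀ u ∈ X s, B u = 1 from ⟨_, hW u hu, by rw [e1 u hu, this u hu, mul_one], e2 u hu⟩
  have k1 : ∀ u ∈ X s, ∀ u' ∈ X s, W (u * u') * B (u * u') = W u * (u'⁻¹ * B u * u') * W u' * B u' := fun u hu u' hu' => by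
    rw [← mul_left_inj y, ← e1 _ (mul_mem hu hu'), show (u * u')⁻¹ * y * (u * u') = u'⁻¹ * (u⁻¹ * y * u) * u' by group,
      e1 u hu, mul_assoc _ (W u'), mul_assoc _ (_ * B u'), ← e1 u' hu', ← mul_assoc u'⁻¹, ← mul_assoc u'⁻¹,
      (V.cm (hW u hu) hu').inv_left.eq]; group
  have k2 : ∀ u ∈ X s, ∀ u' ∈ X s, ⁅u'⁻¹, B u⁆ ∈ X (s + 3) := fun u hu u' hu' => by
    refine Yy_one (M.inter (M.cm (inv_mem hu') (hB u hu)) (d := s + 5) ?_)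
    rw [show ⁅u'⁻¹, B u⁆ = (W u)⁻¹ * (W (u * u') * B (u * u')) * (B u')⁻¹ * (W u')⁻¹ * (B u)⁻¹ by rw [k1 u hu u' hu']; group]
    have := mul_mem hu hu'
    exact mul_mem (mul_mem (mul_mem (mul_mem (inv_mem (mY (hW u hu).1)) (mul_mem (mY (hW _ this).1) (mY (hB _ this))))
      (inv_mem (mY (hB _ hu')))) (inv_mem (mY (hW _ hu').1))) (inv_mem (mY (hB _ hu)))
  let P : G → Prop := fun u => u ∈ X s ∧ (∀ x ∈ X s, Commute x u) ∧ ∀ c ∈ X (s + 4), ⁅c⁻¹, u⁆ ∈ X (s + 1)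
  have k3 : ∀ u, P u → B u = 1 := fun u ⟨hu, h1, h2⟩ => M.vo E (M.toV' (hB u hu) (e3 u hu) (.inl fun u' hu' => by
    have h3 : u⁻¹ * B u' * u = B u' := by
      have h4 := k2 u' hu' u hu
      have := M.dj (a := s + 1) (c := s + 2) (b := s + 4) (g := ⁅u⁻¹, B u'⁆) (by
        rw [← cj_eq (e3 u' hu' _ (by omega) (by omega) _ h4).symm,
          show (B u')⁻¹ * ⁅u⁻¹, B u'⁆ * B u' = u⁻¹ * ⁅(B u')⁻¹, u⁆⁻¹ * u by group,
          cj_eq (M.c1 hu (inv_mem (h2 _ (hB u' hu'))))]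
        exact mY (inv_mem (h2 _ (hB u' hu')))) (mY h4)
      exact cj_eq (Commute.inv_left_iff.1 (commutatorElement_eq_one_iff_commute.1 this))
    have := k1 u hu u' hu'
    rw [← (h1 u' hu').eq, k1 u' hu' u hu, h3, mul_assoc (W u'), (V.cm (hW u hu) (hB u' hu')).eq, ← mul_assoc,
      (V.cm (hW u hu) (hW u' hu').1).eq, mul_assoc (W u) (W u'), mul_assoc (W u), mul_assoc (W u), mul_assoc (W u),
      mul_right_inj, mul_assoc (W u'), (e3 u hu _ (by omega) (by omega) _ (hB u' hu')).eq, ← mul_assoc, mul_left_inj,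
      ← (V.cm (hW u' hu') (hB u hu)).eq, mul_left_inj] at this
    exact of_cj this.symm))
  intro u' hu'
  by_contra h1
  obtain ⟨τ, h2, h3⟩ := M.ne (s + 6)
  obtain ⟨κ, l, n, H⟩ := M.ex h2 h3
  have h4 : P (n * B u' * n⁻¹) := ⟨H.s.up (hB u' hu'), fun x hx => by
    simpa [mul_assoc] using (e3 u' hu' (s + 4) (by omega) (by omega) _ (H.s.dn hx)).conj n, fun c hc => by
    simpa [commutatorElement_def, mul_assoc] using H.s.up (t := s + 1) (k2 u' hu' _ (H.s.dn hc))⟩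
  have k4 : ∀ u ∈ X s, u ≠ 1 → W u ≠ 1 := fun u hu q => by
    obtain ⟨κ, l, n, H⟩ := M.ex hu q
    exact e2 u hu _ _ _ H ▸ cj_ne n h0
  have k5 : W 1 * B 1 = 1 := by simpa using (e1 1 (one_mem _)).symm
  have k6 : B 1 = 1 := k3 1 ⟨one_mem _, by simp, by simp⟩
  have h5 : n * B u' * n⁻¹ ≠ 1 := by simpa using h1
  generalize n * B u' * n⁻¹ = u at h4 h5
  obtain ⟨h, S, h6, h7⟩ := M.tor2 E (t := s + 1) (hW u h4.1) (k4 u h4.1 h5) (inv_mem (hW u' hu'))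
    (inv_ne_one.2 (k4 u' hu' (by rintro rfl; exact h1 k6)))
  have h8 : P (h * u * h⁻¹) := ⟨S.up h4.1, fun x hx => by simpa [mul_assoc] using (h4.2.1 _ (S.dn hx)).conj h,
    fun c hc => by simpa [commutatorElement_def, mul_assoc] using S.up (t := s + 1) (h4.2.2 _ (S.dn hc))⟩
  have h9 := cj_cj h (e1 u h4.1)
  rw [k3 u h4, mul_one, ← conj_mul, h6, (h7 y hy.1).mul_inv_cancel, e1 _ h8.1, k3 _ h8, mul_one, mul_left_inj] at h9
  have h10 := k1 _ h8.1 u' hu'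
  rw [k3 _ h8, h9, mul_one, inv_mul_cancel, mul_one, inv_mul_cancel, one_mul] at h10
  have h11 := mul_mem h8.1 hu'
  have h12 := (M.peel (hW _ h11).1 (one_mem _) (mY (a := s + 4) (b := s + 5) (hB _ h11)) (mY (b := s + 5) (hB _ hu'))
    (by rw [h10, one_mul])).1
  rw [by_contra fun q => k4 _ h11 q h12, k5] at h10
  exact h1 h10.symm

theorem o5r (hu : u ∈ X (t + 5)) (hy : y ∈ V X t) (e : t % 2 = 0 := by omega) : ∃ w ∈ V X (t + 2), u⁻¹ * y * u = w * y ∧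
    ∀ κ l n, Mk X (t + 5) κ u l n → w = n⁻¹ * y * n := by
  obtain ⟨w, h1, h2, h3⟩ := (M.rev (t + 6)).o5 (M.vrev E _) (s := 1) (M.toX hu) (M.toV hy)
  exact ⟨w, M.ofV h1, h2, fun _ _ _ H => h3 _ _ _ (H.rev M.eq)⟩

theorem oinj (hu : u ∈ X s) (hu' : u' ∈ X s) (hy : y ∈ V X (s + 5)) (h0 : y ≠ 1) (q : u⁻¹ * y * u = u'⁻¹ * y * u') :
    u = u' := by
  refine mul_inv_eq_one.1 ((M.nc (mul_mem hu (inv_mem hu')) hy.1 (of_cj ?_)).resolve_right h0)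
  rw [show (u * u'⁻¹)⁻¹ * y * (u * u'⁻¹) = u' * (u⁻¹ * y * u) * u'⁻¹ by group, q]; group

theorem oc (hu : u ∈ X s) (hu' : u' ∈ X s) (e : s % 2 = 1 := by omega) : Commute u u' ∧ u * u = 1 := by
  obtain ⟨y, hy, h0⟩ := E (s + 5) (by omega)
  obtain ⟨w, h1, e1, -⟩ := M.o5 E hu hy
  obtain ⟨w', h2, e2, -⟩ := M.o5 E hu' hy
  exact ⟨M.oinj E (mul_mem hu hu') (mul_mem hu' hu) hy h0 (by
    rw [cj_mul (V.cm h1 hu') e1 e2, cj_mul (V.cm h2 hu) e2 e1, (V.cm h1 h2.1).eq]),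
    M.oinj E (mul_mem hu hu) (one_mem _) hy h0 (by rw [cj_mul (V.cm h1 hu) e1 e1, M.exp2 E h1]; simp)⟩

theorem muinj (H : Mk X s κ u l n) (H' : Mk X s κ' u' l' n) (e : s % 2 = 1 := by omega) : u = u' := by
  obtain ⟨y, hy, h0⟩ := E (s + 5) (by omega)
  obtain ⟨w, h1, e1, e2⟩ := M.o5 E H.m hy
  obtain ⟨w', h2, e3, e4⟩ := M.o5 E H'.m hy
  exact M.oinj E H.m H'.m hy h0 (by rw [e1, e3, e2 _ _ _ H, e4 _ _ _ H'])

theorem osur (hy : y ∈ V X (s + 5)) (h0 : y ≠ 1) (hw : w ∈ V X (s + 3)) (e : s % 2 = 1 := by omega) :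
    ∃ u ∈ X s, u⁻¹ * y * u = w * y := by
  by_cases h1 : w = 1
  · exact ⟨1, one_mem _, by simp [h1]⟩
  obtain ⟨u, hu, h2⟩ := M.ne s
  obtain ⟨κ, l, n, H⟩ := M.ex hu h2
  obtain ⟨w', h3, e1, e2⟩ := M.o5 E hu hy
  obtain ⟨h, S, h6, h7⟩ := M.tor2 E (t := s + 1) h3 (e2 _ _ _ H ▸ cj_ne n h0) hw h1
  exact ⟨_, S.up hu, by simpa only [← conj_mul, h6, (h7 y hy.1).mul_inv_cancel] using cj_cj h e1⟩

theorem trO (hu : u ∈ X s) (h0 : u ≠ 1) (hu' : u' ∈ X s) (h1 : u' ≠ 1) (e : s % 2 = 1 := by omega) :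
    ∃ h, Sy X 1 0 h ∧ h * u * h⁻¹ = u' := by
  obtain ⟨y, hy, h2⟩ := E (s + 5) (by omega)
  obtain ⟨κ, l, n, H⟩ := M.ex hu h0
  obtain ⟨κ', l', n', H'⟩ := M.ex hu' h1
  obtain ⟨w, h3, e1, e2⟩ := M.o5 E hu hy
  obtain ⟨w', h4, e3, e4⟩ := M.o5 E hu' hy
  obtain ⟨h, S, h6, h7⟩ := M.tor2 E (t := s + 1) h3 (e2 _ _ _ H ▸ cj_ne n h2) h4 (e4 _ _ _ H' ▸ cj_ne n' h2)
  exact ⟨h, S, M.oinj E (S.up hu) hu' hy h2 (by
    simpa only [← conj_mul, h6, (h7 y hy.1).mul_inv_cancel, e3] using cj_cj h e1)⟩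

theorem lnV (H : Mk X t κ u l n) (hu : u ∈ V X t) (e : t % 2 = 0 := by omega) : l ∉ V X (t + 8) := fun hl => by
  obtain ⟨x, hx, h0⟩ := M.ne (t + 5)
  obtain ⟨g, h1, e1⟩ := M.dk 5 H hx (by rw [(M.invol H (M.exp2 E hu)).1]; exact (V.cm hl hx).symm.inv_left)
  obtain ⟨w, h2, e2, -⟩ := M.o5r E hx hu
  have e3 : w = n⁻¹ * x * n * g := by
    rw [← mul_left_inj x, ← e1, cj_sw (M.exp2 E hu) (M.oc E hx hx).2 (V.cm hu h2.1).symm e2]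
  have := M.dj (a := t + 2) (c := t + 3) (b := t + 6) (mY h2.1) (e3 ▸ mul_mem (mY (H.s.dn (s := t + 3) hx)) (mo h1))
  rw [← e3, this, one_mul] at e1
  exact (M.nc hu.1 hx (of_cj e1)).elim H.ne h0

theorem bz (H : Mk X t κ u l n) (hu : u ∈ V X t) (hv : v ∈ V X (t + 6)) (h0 : v ≠ 1) (h1 : w ∈ V X (t + 4))
    (h2 : w' ∈ V X (t + 4)) (e1 : u⁻¹ * v * u = n⁻¹ * v * n * w * v)
    (e2 : (n⁻¹ * v * n)⁻¹ * (n * u * n⁻¹) * (n⁻¹ * v * n) = w' * v * (n * u * n⁻¹)) (e : t % 2 = 0 := by omega) : False := by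
  have h3 := H.s.V' (s := t + 2) hv
  have h4 := H.s.V (t := t + 8) hu
  rw [H.g4 (V.cm hv H.k)] at e1
  have q := M.lnV E H hu
  obtain ⟨κ', l', n', H'⟩ := M.ex (t := t + 2 + 6) (mul_mem (inv_mem H.r) h4.1) fun q' => q (inv_mul_eq_one.1 q' ▸ h4)
  obtain ⟨g, h5, e3⟩ := M.dk' 6 H' h3.1 (V.cm h3 H'.r)
  replace e2 := cj_sw (M.exp2 E h4) (M.exp2 E h3) ((V.cm h4 h2.1).mul_left (V.cm h4 hv.1)).symm e2
  have h6 := cj_ne n h0
  have h7 := inv_eq_of_mul_eq_one_right (M.exp2 E h4)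
  generalize n⁻¹ * v * n = x at *
  generalize n * u * n⁻¹ = y at *
  have e4 : l⁻¹ * y * x * (l⁻¹ * y)⁻¹ = w' * w⁻¹ * x := by
    rw [show l⁻¹ * y * x * (l⁻¹ * y)⁻¹ = l⁻¹ * (y⁻¹ * x * y) * l by rw [mul_inv_rev, h7]; group, e2,
      show w' * v * x = w' * w⁻¹ * (l * x * l⁻¹) by
        rw [e1, mul_assoc x, ← ((V.cm h3 h1.1).mul_left (V.cm h3 hv.1)).eq]; group,
      ← mul_assoc, ((V.cm h2 H.r).mul_right (V.cm h1 H.r).inv_right).inv_left.eq]; group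
  rw [e4, mul_left_inj] at e3
  exact h6 (conj_eq_one_iff.1 (M.disj' (t + 3) (t + 6) (by omega) _ (H'.s.up h3.1) (by
    rw [← mul_inv_eq_iff_eq_mul.2 e3]
    exact mul_mem (mul_mem (mY h2.1) (inv_mem (mY h1.1))) (inv_mem h5))))

end H8

end CF.Oc
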