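import Cfsg.Agent.Mp.OB

/-! Moufang octagons: commuting root groups and the field. -/

set_option autoImplicit false

namespace CF.Oc

open CF.Tb CF.Hx Subgroup
open scoped commutatorElement IsMulCommutative

variable {G : Type*} [Group G] {X : ℕ → Subgroup G} {i j k r s t p : ℕ}
  {a b c g h x y z u v w n n' κ κ' l l' w' u' y' : G}

namespace H8

variable (M : H8 X) (E : VE X) [Finite G]
include M E

theorem allb (hc : c ∈ X (t + 3)) (e : t % 2 = 0 := by omega) : ∃ u ∈ V X t, ∃ v ∈ V X (t + 6), ∃ w ∈ V X (t + 2),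
    ∃ w' ∈ V X (t + 4), u⁻¹ * v * u = w * c * w' * v := by
  by_cases h0 : c = 1
  · exact ⟨1, one_mem _, 1, one_mem _, 1, one_mem _, 1, one_mem _, by simp [h0]⟩
  obtain ⟨u, h1, v, h2, w, h3, b, h4, w', h5, e1, h6⟩ : ∃ u ∈ V X t, ∃ v ∈ V X (t + 6), ∃ w ∈ V X (t + 2),
      ∃ b ∈ X (t + 3), ∃ w' ∈ V X (t + 4), u⁻¹ * v * u = w * b * w' * v ∧ b ≠ 1 := by
    by_contra q
    push Not at q
    obtain ⟨u, h1, h2⟩ := E t e
    obtain ⟨v, h3, h4⟩ := E (t + 6) (by omega)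
    obtain ⟨κ, l, n, H⟩ := M.ex h1.1 h2
    obtain ⟨w, h5, b, h6, w', h7, e1, e2, -⟩ := M.v6 h1 h3
    have k1 := H.s.V' (s := t + 2) h3
    have k2 := H.s.V (t := t + 2 + 6) h1
    obtain ⟨w2, k5, b2, k6, w2', k7, e3, -, e4⟩ := M.v6 k1 k2
    obtain ⟨a, h8, h9⟩ := M.ne 0
    obtain ⟨a', k8, k9⟩ := M.ne 1
    obtain ⟨_, _, m, H0⟩ := M.ex h8 h9
    obtain ⟨_, _, m', H1⟩ := M.ex k8 k9
    have S : Sy X 1 14 (m * m') := H0.s.mul H1.s _ _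
    have := q _ (S.V k1) _ (S.V k2) _ (S.V k5) _ (S.up k6) _ (S.V k7) (by simpa only [conj_mul] using cj_cj (m * m') e3)
    rw [conj_eq_one_iff.1 this, e4 _ _ _ (M.self H), mul_one, show n * (n⁻¹ * v * n) * n⁻¹ = v by group] at e3
    rw [q _ h1 _ h3 _ h5 _ h6 _ h7 e1, mul_one, e2 _ _ _ H] at e1
    exact M.bz E H h1 h3 h4 h7 k5 e1 e3
  obtain ⟨h, S, rfl⟩ := M.trO E h4 h6 hc h0
  exact ⟨_, S.V h1, _, S.V h2, _, S.V h3, _, S.V h5, by simpa only [conj_mul] using cj_cj h e1⟩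

theorem c13 (hx : x ∈ X s) (hc : c ∈ X r) (e : s % 2 = 1 ∧ r % 16 = (s + 2) % 16 := by omega) : Commute x c := by
  obtain ⟨u, h1, v, h2, w, h3, w', h4, e1⟩ := M.allb E (t := s + 15) (M.mv hc)
  obtain ⟨w6, h5, e2, -⟩ := M.o5 E hx (M.mV h2)
  have e3 := cj_cj x⁻¹ e1
  rw [← conj_mul, ← conj_mul, ← conj_mul, inv_inv, cj_eq (V.cm h1 hx), cj_eq (V.cm h3 hx), cj_eq (V.cm h4 hx), e2,
    ← mul_assoc, (V.cm h1 h5.1).symm.inv_left.eq, mul_assoc, mul_assoc, ← mul_assoc u⁻¹, e1] at e3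
  simp only [mul_assoc, (V.cm h3 h5.1).left_comm, (V.cm h5 hc).symm.left_comm, (V.cm h5 h4.1).symm.left_comm,
    mul_right_inj] at e3
  exact of_cj (mul_right_cancel (by rw [mul_assoc, mul_assoc, ← e3]))

theorem c15a (hx : x ∈ X s) (hc : c ∈ X (s + 4)) (e : s % 2 = 1 := by omega) : ∃ w ∈ V X (s + 3), x⁻¹ * c * x = w * c := by
  by_cases h0 : x = 1
  · exact ⟨1, one_mem _, by simp [h0]⟩
  obtain ⟨u, h1, v, h2, w, h3, w', h4, e1⟩ := M.allb E (t := s + 1) hc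
  obtain ⟨κ, l, n, H⟩ := M.ex hx h0
  obtain ⟨g, h5, e2⟩ := M.dk 7 H h2.1 (V.cm h2 H.k)
  obtain ⟨g1, h6, a7, h7, rfl⟩ := M.split (s + 6) h5
  replace h7 := Yy_one h7
  obtain ⟨w2, h8, e3, -⟩ := M.o5r E (t := s + 1) h7 h1
  replace e3 := cj_sw (M.exp2 E h1) (M.oc E h7 h7).2 (V.cm h1 h8.1).symm e3
  obtain ⟨w4, h9, e4, -⟩ := M.o5 E hx h4
  have k1 := H.s.V' (s := s + 1) h2
  have k2 : n⁻¹ * v * n * g1 ∈ Yy X (s + 1) (s + 6) := mul_mem (mY k1.1) (mo h6)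
  have k3 : Commute (n⁻¹ * v * n * g1) c := (V.cm k1 hc).symm.mul_left (mem_cen (fun r _ _ y hy => by
    rcases (by omega : r = s + 2 ∨ r = s + 3 ∨ r = s + 4 ∨ r = s + 5) with rfl | rfl | rfl | rfl
    exacts [M.c13 E hy hc, M.c1 hy hc, (M.oc E hy hc).1, (M.c1 hc hy).symm]) _ h6)
  have k4 : Commute u (n⁻¹ * v * n * g1) := (V.Y h1 (mul_mem (mY k1.1) (mo h6) : _ ∈ Yy X (s + 1) (s + 6))).symm
  rw [← mul_assoc] at e2
  generalize n⁻¹ * v * n * g1 = A at *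
  have e5 := cj_cj x⁻¹ e1
  rw [← conj_mul, ← conj_mul, ← conj_mul, inv_inv, cj_eq (V.cm h1 hx), cj_eq (V.cm h3 hx), e2, e4,
    show u⁻¹ * (A * a7 * v) * u = u⁻¹ * A * u * (u⁻¹ * a7 * u) * (u⁻¹ * v * u) by group, cj_eq k4, e3, e1] at e5
  have k5 := M.nri (a := s + 1) (b := s + 5) hx (mY hc)
  generalize x⁻¹ * c * x = c' at *
  simp only [mul_assoc, (V.Y h3 k2).left_comm, (V.Y h4 k2).left_comm, (V.Y h8 k2).left_comm, k3.left_comm,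
    (V.cm h3 h7).left_comm, (V.cm h4 h7).left_comm, (M.c13 E hc h7).symm.left_comm, (V.cm h3 h8.1).left_comm,
    (V.Y h9 k5).left_comm, mul_right_inj] at e5
  refine ⟨w4⁻¹ * w2, mul_mem (inv_mem h9) h8, ?_⟩
  rw [← mul_assoc w2, ← mul_assoc w4, mul_left_inj] at e5
  rw [mul_assoc, e5, inv_mul_cancel_left]

theorem c15 (hx : x ∈ X s) (hc : c ∈ X r) (e : s % 2 = 1 ∧ r % 16 = (s + 4) % 16 := by omega) : Commute x c := by
  replace hc := M.mv (b := s + 4) hc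
  obtain ⟨w, h1, e1⟩ := M.c15a E hx hc
  obtain ⟨w', h2, e2⟩ := (M.rev (s + 5)).c15a (M.vrev E _) (s := 1) (M.toX hc) (M.toX hx)
  replace h2 := M.ofV (s := s + 1) h2
  rw [cj_sw (M.oc E hx hx).2 (M.oc E hc hc).2 (V.cm h2 hx) e2, mul_left_inj] at e1
  rw [M.dj (a := s + 1) (c := s + 2) (b := s + 4) (mY h2.1) (e1 ▸ mY h1.1), one_mul] at e2
  exact (of_cj e2).symm

theorem c25a {w2 w4 c7 : G} (h1 : u ∈ V X t) (h3 : w ∈ V X (t + 2)) (h4 : w' ∈ V X (t + 4)) (hc : c ∈ X (t + 3))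
    (e1 : u⁻¹ * v * u = w * c * w' * v) (ha : a ∈ X t) (h5 : w4 ∈ V X (t + 2)) (h6 : g ∈ Yy X (t + 3) (t + 5))
    (h7 : c7 ∈ X (t + 5)) (e2 : a⁻¹ * v * a = w4 * g * c7 * v) (h8 : w2 ∈ V X (t + 2)) (e3 : u⁻¹ * c7 * u = w2 * c7)
    (e : t % 2 = 0 := by omega) : a⁻¹ * c * a = w2 * c := by
  have e5 := cj_cj a⁻¹ e1
  have k3 : Commute g c := mem_cen (fun r _ _ y hy => by
    rcases (by omega : r = t + 3 ∨ r = t + 4) with rfl | rfl
    exacts [(M.oc E hy hc).1, (M.c1 hc hy).symm]) _ h6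
  rw [← conj_mul, ← conj_mul, ← conj_mul, inv_inv, cj_eq (V.cm h1 ha), cj_eq (V.cm h3 ha), cj_eq (V.cm h4 ha), e2,
    show u⁻¹ * (w4 * g * c7 * v) * u = u⁻¹ * (w4 * g) * u * (u⁻¹ * c7 * u) * (u⁻¹ * v * u) by group,
    cj_eq ((V.cm h1 h5.1).mul_left (V.Y h1 h6)).symm, e3, e1] at e5
  have k5 := M.nri (a := t + 1) (b := t + 4) ha (mY hc)
  generalize a⁻¹ * c * a = c' at *
  simp only [mul_assoc, (V.Y h3 h6).left_comm, (V.Y h4 h6).left_comm, (V.Y h8 h6).left_comm, k3.left_comm,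
    (V.cm h3 h7).left_comm, (V.cm h4 h7).left_comm, (M.c13 E hc h7).symm.left_comm, (V.cm h3 h8.1).left_comm,
    (V.cm h3 h5.1).left_comm, (V.cm h5 h8.1).symm.left_comm, (V.cm h5 hc).symm.left_comm,
    (V.cm h5 h4.1).symm.left_comm, mul_right_inj] at e5
  rw [← mul_assoc, mul_left_inj] at e5
  exact e5.symm

theorem c25 (ha : a ∈ X t) (hc : c ∈ X (t + 3)) (e : t % 2 = 0 := by omega) :
    (∃ w ∈ V X (t + 2), a⁻¹ * c * a = w * c) ∧ (c ≠ 1 → Commute a c → a ∈ V X t) := by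
  by_cases h0 : a = 1
  · exact ⟨⟨1, one_mem _, by simp [h0]⟩, fun _ _ => h0 ▸ one_mem _⟩
  obtain ⟨u, h1, v, h2, w, h3, w', h4, e1⟩ := M.allb E hc
  obtain ⟨κ, l, n, H⟩ := M.ex ha h0
  obtain ⟨g, h5, e2⟩ := M.dk 6 H h2.1 (V.cm h2 H.k)
  obtain ⟨g1, h6, a7, h7, rfl⟩ := M.split (t + 5) h5
  replace h7 := Yy_one h7
  obtain ⟨w2, h8, e3, -⟩ := M.o5r E h7 h1
  replace e3 := cj_sw (M.exp2 E h1) (M.oc E h7 h7).2 (V.cm h1 h8.1).symm e3
  have k1 := H.s.V' (s := t + 2) h2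
  have e4 := M.c25a E h1 h3 h4 hc e1 ha k1 h6 h7 (by rw [e2, mul_assoc _ g1]) h8 e3
  refine ⟨⟨_, h8, e4⟩, fun q q' => ?_⟩
  rw [cj_eq q', eq_comm, mul_eq_right] at e4
  rw [e4, one_mul] at e3
  have k2 : ∀ {c}, c ∈ X (t + 3) → w * c * w' = 1 → c = 1 := fun hc e => (M.uq3 h3.1 hc (mY h4.1) (one_mem _) (one_mem _)
    (one_mem _) (by simp [e])).2.1
  have k3 : v ≠ 1 := by rintro rfl; exact q (k2 hc (by simpa using e1.symm))
  obtain rfl := (M.nc h1.1 h7 (of_cj e3)).resolve_left (by rintro rfl; exact q (k2 hc (by simpa using e1.symm)))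
  obtain ⟨u', k4, κ', l', n', H', e5⟩ := M.tr h2 k3 (inv_mem k1) (inv_ne_one.2 (cj_ne n k3))
  obtain ⟨w5, k5, b, k6, w6, k7, e6, e7, -⟩ := M.v6 k4 h2
  have e8 := cj_mul ((V.cm k4 k1.1).mul_left (V.Y k4 h6)).symm (by simpa using e2) e6
  rw [e7 _ _ _ H', e5, (V.Y k1 h6).symm.eq, ← mul_assoc (g1 * _), ← mul_assoc (g1 * _), mul_inv_cancel_right] at e8
  by_contra k8
  obtain ⟨κ2, l2, n2, H2⟩ := M.ex (mul_mem ha k4.1) fun q => k8 (eq_inv_of_mul_eq_one_left q ▸ inv_mem k4)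
  obtain ⟨g2, k9, e9⟩ := M.dk 6 H2 h2.1 (V.cm h2 H2.k)
  rw [e8, mul_left_inj, ← one_mul (g1 * b * w6)] at e9
  exact cj_ne n2 k3 (M.peel (one_mem _) (H2.s.dn (s := t + 2) h2.1) (mul_mem (mul_mem (mo h6) (mY k6)) (mY k7.1) :
    _ ∈ Yy X (t + 3) (t + 6)) k9 e9).1.symm

theorem c14 (ha : a ∈ X (s + 3)) (hc : c ∈ X s) (e : s % 2 = 1 := by omega) :
    (∃ w ∈ V X (s + 1), a⁻¹ * c * a = w * c) ∧ (c ≠ 1 → Commute a c → a ∈ V X (s + 3)) := by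
  obtain ⟨⟨w, h1, h2⟩, h3⟩ := (M.rev (s + 3)).c25 (M.vrev E _) (t := 0) (M.toX ha) (M.toX hc)
  exact ⟨⟨w, M.ofV h1, h2⟩, fun q q' => M.ofV (h3 q q')⟩

theorem k16 (H : Mk X t κ v l n) (hv : v ∈ V X t) (hx : x ∈ X (t + 3)) (e : t % 2 = 0 := by omega) :
    ∃ g ∈ V X (t + 4), κ * x * κ⁻¹ = x * g * (n⁻¹ * x * n) := by
  have e1 := (M.right H).g4 (V.cm hv hx).symm
  have h1 := H.s.dn (s := t + 5) hx
  have h2 := M.mv (b := t) (M.right H).r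
  have h3 : x⁻¹ * (κ * x * κ⁻¹) * (n⁻¹ * x * n)⁻¹ ∈ X (t + 4) := Yy_one (M.inter (a := t + 1) (d := t + 8) (by
    rw [(M.invol H (M.exp2 E hv)).1, inv_inv, e1, mul_assoc]
    exact mul_mem (inv_mem (mY hx)) (mo (M.cm h2 h1))) (mul_mem
      (by simpa [commutatorElement_def, mul_assoc] using M.cm (inv_mem hx) H.k) (inv_mem (mY h1))))
  obtain ⟨z, h4, h5⟩ := M.ne (t + 4 + 3)
  have h6 := M.c15 E hx h4
  have h7 := (M.c1 h4 H.k).symm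
  exact ⟨_, (M.c25 E h3 h4).2 h5 ((h6.inv_left.mul_left ((h7.mul_left h6).mul_left h7.inv_left)).mul_left
    (M.c13 E h1 h4).inv_left), by group⟩

omit E [Finite G] in
theorem exAC (t : ℕ) : ∃ A C : G → G → G, (∀ u ∈ V X t, ∀ v ∈ V X (t + 6), A u v ∈ V X (t + 2) ∧ C u v ∈ V X (t + 4) ∧
    (∀ κ l n, Mk X t κ u l n → A u v = n⁻¹ * v * n) ∧ ∀ κ l n, Mk X (t + 6) κ v l n → C u v = n * u * n⁻¹) ∧
    (∀ u ∈ V X t, ∀ u' ∈ V X t, ∀ v ∈ V X (t + 6), A (u * u') v = A u v * A u' v ∧ C (u * u') v = C u v * C u' v) ∧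
    ∀ u ∈ V X t, ∀ v ∈ V X (t + 6), ∀ v' ∈ V X (t + 6), A u (v * v') = A u v * A u v' ∧ C u (v * v') = C u v * C u v' := by
  choose! A hA B hB C hC e e1 e2 using fun u (hu : u ∈ V X t) v (hv : v ∈ V X (t + 6)) => M.v6 hu hv
  have key : ∀ u ∈ V X t, ∀ v ∈ V X (t + 6), ∀ u' ∈ V X t, ∀ v' ∈ V X (t + 6), ∀ u2 ∈ V X t, ∀ v2 ∈ V X (t + 6),
      u2⁻¹ * v2 * u2 = A u v * B u v * C u v * (A u' v' * B u' v' * C u' v') * v2 →
      A u2 v2 = A u v * A u' v' ∧ C u2 v2 = C u v * C u' v' := fun u hu v hv u' hu' v' hv' u2 hu2 v2 hv2 q => by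
    rw [M.v6m (hA u hu v hv) (hC u hu v hv) (hA u' hu' v' hv') (hB u hu v hv) (hB u' hu' v' hv'), e _ hu2 _ hv2,
      mul_left_inj] at q
    have := M.uq3 (hA _ hu2 _ hv2).1 (hB _ hu2 _ hv2) (mY (hC _ hu2 _ hv2).1) (mul_mem (hA u hu v hv).1 (hA _ hu' _ hv').1)
      (mul_mem (hB u hu v hv) (hB _ hu' _ hv')) (mY (mul_mem (hC u hu v hv).1 (hC _ hu' _ hv').1)) q
    exact ⟨this.1, this.2.2⟩
  exact ⟨A, C, fun u hu v hv => ⟨hA u hu v hv, hC u hu v hv, e1 u hu v hv, e2 u hu v hv⟩, fun u hu u' hu' v hv =>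
    key u hu v hv u' hu' v hv _ (mul_mem hu hu') _ hv (cj_mul (M.v6c (hA u hu v hv) (hB u hu v hv) (hC u hu v hv) hu')
      (e u hu v hv) (e u' hu' v hv)), fun u hu v hv v' hv' => key u hu v hv u hu v' hv' _ hu _ (mul_mem hv hv')
    (cj_mul' (M.v6c (hA u hu v' hv') (hB u hu v' hv') (hC u hu v' hv') hv) (e u hu v hv) (e u hu v' hv'))⟩

theorem exK {e e' m : G} (H : Mk X 0 κ e l m) (he : e ∈ V X 0) (he' : e' ∈ V X 6) (h0 : e' ≠ 1) :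
    ∃ (K : Type) (_ : Field K) (_ : Fintype K) (k z : K → G), Ad k (V X 0) ∧ Ad z (V X 6) ∧ k 1 = e ∧ z 1 = e' ∧
      ∀ s a κ l n, Mk X 0 κ (k s) l n → n⁻¹ * z a * n = m⁻¹ * z (s * a) * m := by
  obtain ⟨A, C0, a1, a2, a3⟩ := M.exAC 0
  obtain ⟨A0, C, d1, c2, c3⟩ := M.exAC 2
  haveI : IsMulCommutative (V X 6) := ⟨⟨fun a b => Subtype.ext (V.cm b.2 a.2.1)⟩⟩
  let F : ∀ u ∈ V X 0, ∀ w ∈ V X 8, AddMonoid.End (Additive (V X 6)) := fun u hu w hw => AddMonoidHom.mk'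
    (fun c => Additive.ofMul ⟨C (A u c.toMul) w, (d1 _ (a1 u hu _ c.toMul.2).1 w hw).2.1⟩) fun a b =>
      congrArg Additive.ofMul (Subtype.ext ((congrArg (C · w) (a3 u hu _ a.toMul.2 _ b.toMul.2).1).trans
        (c2 _ (a1 u hu _ a.toMul.2).1 _ (a1 u hu _ b.toMul.2).1 w hw).2))
  have hF : ∀ f g : AddMonoid.End (Additive (V X 6)), (∀ c, ((f c).toMul : G) = (g c).toMul) → f = g :=
    fun f g e => AddMonoidHom.ext fun c => Additive.toMul.injective (Subtype.ext (e c))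
  have k0 : ∀ {u κ l n}, u ∈ V X 0 → Mk X 0 κ u l n → n⁻¹ = n := fun hu H => (M.invol H (M.exp2 E hu)).2
  have k1 : ∀ {u κ l n} (hu : u ∈ V X 0) (H : Mk X 0 κ u l n) {u' κ' l' n'} (hw : u' ∈ V X 8) (H' : Mk X 8 κ' u' l' n')
      (c : Additive (V X 6)), ((F u hu u' hw c).toMul : G) = n' * (n⁻¹ * c.toMul * n) * n'⁻¹ := fun hu H _ _ _ _ hw H' c => by
    rw [← (a1 _ hu _ c.toMul.2).2.2.1 _ _ _ H]; exact (d1 _ (a1 _ hu _ c.toMul.2).1 _ hw).2.2.2 _ _ _ H'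
  have hw := H.s.V (t := 8) he
  have H' := M.self H
  have k2 : ∀ u hu u' hu', F (u * u') (mul_mem hu hu') _ hw = F u hu _ hw + F u' hu' _ hw := fun u hu u' hu' =>
    hF _ _ fun c => (congrArg (C · _) (a2 u hu u' hu' _ c.toMul.2).1).trans
      (c2 _ (a1 u hu _ c.toMul.2).1 _ (a1 u' hu' _ c.toMul.2).1 _ hw).2
  have k3 : ∀ w hw w' hw', F e he (w * w') (mul_mem hw hw') = F e he w hw + F e he w' hw' := fun w hw w' hw' =>
    hF _ _ fun c => (c3 _ (a1 _ he _ c.toMul.2).1 _ hw _ hw').2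
  let f : V X 0 →* Multiplicative (AddMonoid.End (Additive (V X 6))) := MonoidHom.mk' (fun u => .ofAdd (F u u.2 _ hw))
    fun u v => k2 _ u.2 _ v.2
  let f' : V X 8 →* Multiplicative (AddMonoid.End (Additive (V X 6))) := MonoidHom.mk' (fun u => .ofAdd (F e he u u.2))
    fun u v => k3 _ u.2 _ v.2
  have k4 : F e he _ hw = 1 := hF _ _ fun c => (k1 he H hw H' c).trans (show _ = (c.toMul : G) by group)
  have hJ : 1 ∈ f.range.toAddSubgroup' := ⟨⟨e, he⟩, k4⟩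
  haveI : Nontrivial (AddMonoid.End (Additive (V X 6))) := ⟨1, 0, fun e => h0 (congrArg
    (fun f : AddMonoid.End (Additive (V X 6)) => ((f (Additive.ofMul ⟨e', he'⟩)).toMul : G)) e)⟩
  haveI : Finite (AddMonoid.End (Additive (V X 6))) := DFunLike.finite _
  have hu := Perm.inv_mem_of_pair f.range.toAddSubgroup' f'.range.toAddSubgroup' hJ
    ⟨⟨_, hw⟩, k4⟩ (by
      rintro _ ⟨u, rfl⟩ q
      obtain ⟨κ, l, n, H2⟩ := M.ex u.2.1 fun q' => q (by rw [show u = 1 from Subtype.ext q', map_one]; rfl)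
      have := H2.s.V (t := 8) u.2
      exact ⟨_, ⟨⟨_, this⟩, rfl⟩, hF _ _ fun c => (k1 u.2 H2 hw H' _).trans ((congrArg (fun a => m * (n⁻¹ * a * n) * m⁻¹)
        (k1 he H this (M.self H2) c)).trans (show _ = (c.toMul : G) by group))⟩) (by
      rintro _ ⟨u, rfl⟩ q
      obtain ⟨κ, l, n, H2⟩ := M.ex u.2.1 fun q' => q (by rw [show u = 1 from Subtype.ext q', map_one]; rfl)
      have := H2.s.V (t := 0) u.2
      exact ⟨_, ⟨⟨_, this⟩, rfl⟩, hF _ _ fun c => (k1 he H u.2 H2 _).trans ((congrArg (fun a => n * (m⁻¹ * a * m) * n⁻¹)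
        (k1 this (M.mk (M.self H2)) hw H' c)).trans (show _ = (c.toMul : G) by group))⟩)
  obtain ⟨K, _, _, ι, hι⟩ := PLocal.exists_field_of_jordan _ hJ hu
  choose k hk using fun s : K => (hι _).2 ⟨s, rfl⟩
  have f1 : Function.Injective f := (injective_iff_map_eq_one f).2 fun u q => Subtype.ext (by_contra fun q' => by
    obtain ⟨κ, l, n, H2⟩ := M.ex u.2.1 q'
    have := k1 u.2 H2 hw H' (.ofMul ⟨e', he'⟩)
    rw [show F u u.2 _ hw = 0 from q, eq_comm] at this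
    exact cj_ne n h0 (conj_eq_one_iff.1 this))
  have ck : Ad (fun s => (k s : G)) (V X 0) := ⟨fun a b => congrArg Subtype.val (f1 (by
      rw [map_mul, hk, hk, hk, map_add]; rfl) : k (a + b) = k a * k b), fun a b q => ι.injective (by
      rw [← ofAdd_toAdd (ι a), ← ofAdd_toAdd (ι b)]; exact (hk a).symm.trans ((congrArg f (Subtype.ext q)).trans (hk b))),
    fun g => ⟨fun hg => let ⟨s, q⟩ := (hι _).1 ⟨⟨g, hg⟩, rfl⟩
      ⟨s, congrArg Subtype.val (f1 ((hk s).trans (congrArg _ q)) : k s = ⟨g, hg⟩)⟩, fun ⟨s, q⟩ => q ▸ (k s).2⟩⟩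
  let z : K → V X 6 := fun a => (ι a (.ofMul ⟨e', he'⟩)).toMul
  have z1 : Function.Injective z := fun a b q => by_contra fun q' => h0 (by
    have : ι (a - b) (.ofMul ⟨e', he'⟩) = 0 := by rw [map_sub]; exact sub_eq_zero.2 q
    have := congrArg (ι (a - b)⁻¹) this
    rw [map_zero, show ι (a - b)⁻¹ (ι (a - b) _) = (ι (a - b)⁻¹ * ι (a - b)) _ from rfl, ← map_mul,
      inv_mul_cancel₀ (sub_ne_zero.2 q'), map_one] at this
    exact congrArg (fun c : Additive (V X 6) => (c.toMul : G)) this)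
  have z2 := (z1.bijective_of_nat_card_le (by rw [← ck.card, M.cardV (s := 6) (t := 0) rfl])).2
  refine ⟨K, inferInstance, inferInstance, _, fun a => z a, ck, ⟨fun a b => by simp only [z, map_add]; rfl, fun a b q => z1 (Subtype.ext q),
    fun g => ⟨fun hg => let ⟨s, q⟩ := z2 ⟨g, hg⟩; ⟨s, congrArg Subtype.val q⟩, fun ⟨s, q⟩ => q ▸ (z s).2⟩⟩,
    congrArg Subtype.val (f1 (by rw [hk, map_one]; exact k4.symm) :
      k 1 = ⟨e, he⟩), by simp [z], fun s a κ l n H2 => ?_⟩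
  have := k1 (k s).2 H2 hw H' (.ofMul (z a))
  rw [show F _ (k s).2 _ hw = ι s from hk s] at this
  rw [show (fun a => (z a : G)) (s * a) = _ from (by simp only [z, map_mul]; rfl : _ = _).trans this]
  simp [mul_assoc]

end H8

end CF.Oc
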