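import Cfsg.Agent.Mp.OC

/-! Moufang octagons: the frame and the relations between the end groups. -/

set_option autoImplicit false

namespace CF.Oc

open CF.Tb CF.Hx Subgroup
open scoped commutatorElement

variable {G : Type*} [Group G] {X : ℕ → Subgroup G} {i j k r s t : ℕ}
  {a b c g h x y z u v w n m κ l ρ e e' f : G}

/-- conjugation by powers of the rotation -/
def cc (ρ : G) (j : ℕ) : G ≃* G := MulAut.conj (ρ ^ j)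

/-- the reflections -/
def mi (ρ n : G) (i : ℕ) : G ≃* G := MulAut.conj (ρ ^ i * n)

theorem cc_ap : cc ρ j g = ρ ^ j * g * (ρ ^ j)⁻¹ := rfl

theorem mi_ap : mi ρ n i g = ρ ^ i * n * g * (ρ ^ i * n)⁻¹ := rfl

theorem cc_zero : cc ρ 0 g = g := by simp [cc_ap]

/-- the dihedral group -/
structure Dh (ρ n : G) : Prop where
  r8 : ρ ^ 8 = 1
  nn : n⁻¹ = n
  nr : n * ρ * n⁻¹ = ρ⁻¹

theorem nr_pow' (h : n * ρ * n⁻¹ = ρ⁻¹) (j : ℕ) : n * ρ ^ j = (ρ ^ j)⁻¹ * n := by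
  rw [← inv_pow, ← h, conj_pow, inv_mul_cancel_right]

theorem nr_pow (h : n * ρ * n⁻¹ = ρ⁻¹) (j : ℕ) : n * (ρ ^ j)⁻¹ = ρ ^ j * n := by
  rw [mul_inv_eq_iff_eq_mul, mul_assoc, nr_pow' h, mul_inv_cancel_left]

namespace Dh

variable (D : Dh ρ n)
include D

theorem pw (q : i % 8 = j % 8 := by omega) : ρ ^ i = ρ ^ j := by rw [pow_eq_pow_mod i D.r8, q, ← pow_eq_pow_mod j D.r8]

theorem ce (q : i % 8 = j % 8 := by omega) : cc ρ i g = cc ρ j g := by rw [cc_ap, D.pw q, cc_ap]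

theorem cc_cc (i j : ℕ) (g : G) : cc ρ i (cc ρ j g) = cc ρ ((i + j) % 8) g := by
  rw [← D.ce (i := i + j) (j := (i + j) % 8), cc_ap, cc_ap, cc_ap, pow_add]; group

theorem cm (j i : ℕ) : cc ρ j (ρ ^ i * n) = ρ ^ (i + 2 * j) * n := by
  rw [cc_ap, mul_assoc, mul_assoc, nr_pow D.nr]; group

theorem mm (i : ℕ) : (ρ ^ i * n)⁻¹ = ρ ^ i * n := by rw [mul_inv_rev, D.nn, nr_pow D.nr]

theorem mc (q : n * g * n⁻¹ = cc ρ k g) (i j : ℕ) : mi ρ n i (cc ρ j g) = cc ρ ((i + k + 7 * j) % 8) g := by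
  have := nr_pow D.nr (7 * j)
  rw [inv_eq_of_mul_eq_one_right (show ρ ^ (7 * j) * ρ ^ j = 1 by rw [← pow_add, D.pw (j := 0), pow_zero])] at this
  rw [← D.ce (i := i + 7 * j + k) (j := (i + k + 7 * j) % 8), mi_ap, cc_ap, show ρ ^ i * n * (ρ ^ j * g * (ρ ^ j)⁻¹) * (ρ ^ i * n)⁻¹ =
    ρ ^ i * (n * ρ ^ j) * g * (ρ ^ i * (n * ρ ^ j))⁻¹ by group, this, cc_ap, pow_add, pow_add,
    show ∀ a b : G, a * (b * n) * g * (a * (b * n))⁻¹ = a * b * (n * g * n⁻¹) * (a * b)⁻¹ from fun _ _ => by group, q,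
    cc_ap]; group

theorem mc' (q : n * g * n⁻¹ = cc ρ k g) (i j : ℕ) :
    (ρ ^ i * n)⁻¹ * cc ρ j g * (ρ ^ i * n) = cc ρ ((i + k + 7 * j) % 8) g := by
  rw [← D.mc q, mi_ap, D.mm]

end Dh

/-- frames -/
structure Fr (X : ℕ → Subgroup G) (ρ n e e' f : G) : Prop extends Dh ρ n where
  S : Sy X 1 2 ρ
  ve : e ∈ V X 0
  H0 : Mk X 0 (cc ρ 4 f) e (cc ρ 4 f)⁻¹ n
  H1 : Mk X 1 (cc ρ 4 e') e' (cc ρ 4 e') (ρ * n)
  n0 : ∀ g ∈ X 0, n * g * n⁻¹ = cc ρ 4 g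
  n1 : ∀ g ∈ X 1, n * g * n⁻¹ = cc ρ 3 g

theorem H8.exFr (M : H8 X) (E : VE X) [Finite G] : ∃ ρ n e e' f, Fr X ρ n e e' f := by
  obtain ⟨e, he, h0⟩ := E 0 rfl
  obtain ⟨κ, l, n, H⟩ := M.ex he.1 h0
  obtain ⟨rfl, h1⟩ := M.invol H (M.exp2 E he)
  obtain ⟨e', he', h2⟩ := M.ne 1
  obtain ⟨κ', l', m, H'⟩ := M.ex he' h2
  obtain ⟨rfl, h3⟩ := M.invol H' (M.oc E he' he').2
  obtain ⟨ρ, rfl⟩ : ∃ ρ, m = ρ * n := ⟨m * n⁻¹, by group⟩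
  have S : Sy X 1 2 ρ := by simpa using H'.s.mul H.inv.s 1 2
  have h4 : n * ρ * n⁻¹ = ρ⁻¹ := by
    rw [h1, mul_assoc, ← h3, mul_inv_rev, h1, ← mul_assoc, mul_eq_right]; nth_rw 1 [← h1]; group
  have B := (S.pow M.eq 2).inv 12
  have h5 : ∀ i g, Commute ((ρ ^ 2)⁻¹ * (ρ ^ i * n) * (ρ ^ 2)⁻¹⁻¹) g → ρ ^ i * n * g * (ρ ^ i * n)⁻¹ = cc ρ 4 g := fun i g q => by
    have := q.mul_inv_cancel
    rw [inv_inv, mul_assoc _ (_ * n), mul_assoc _ n, nr_pow' h4] at this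
    rw [cc_ap]; nth_rw 2 [← this]; group
  have n0 : ∀ g ∈ X 0, n * g * n⁻¹ = cc ρ 4 g := fun g hg => by
    simpa using h5 0 g (by simpa using (M.g2 (H.cj (t' := 12) B) hg (V.cm (B.V (t := 12) he) hg).symm).2.2)
  have r8 : ρ ^ 8 = 1 := by
    have := M.self H
    rw [n0 e he.1] at this
    have := (M.uq this (H.cj (S.pow M.eq 4))).2.2
    rwa [mul_assoc, nr_pow h4, ← mul_assoc, ← pow_add, eq_comm, mul_eq_right] at this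
  have D : Dh ρ n := ⟨r8, h1, h4⟩
  have h6 : l' = cc ρ 4 e' := M.muinj E (M.right H') (by
    have := H'.cj (t' := 1 + 8) (S.pow M.eq 4)
    rwa [show ρ ^ 4 * (ρ * n) * _ = _ from pow_one ρ ▸ D.cm 4 1, D.pw (i := 1 + 2 * 4) (j := 1), pow_one] at this)
  refine ⟨ρ, n, e, e', cc ρ 4 l⁻¹, D, S, he, by simpa [D.cc_cc, cc_zero] using H, ?_, n0, fun g hg => ?_⟩
  · rwa [inv_eq_of_mul_eq_one_right (M.oc E H'.r H'.r).2, h6] at H'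
  · have := h5 1 g (by simpa using (M.g2 (H'.cj (t' := 13) B) hg (M.c15 E (B.up (t := 13) he') hg)).2.2)
    calc _ = ρ⁻¹ * (ρ ^ 1 * n * g * (ρ ^ 1 * n)⁻¹) * ρ := by group
      _ = _ := by rw [this, cc_ap, cc_ap]; group

namespace Fr

variable (F : Fr X ρ n e e' f) (M : H8 X)
include F M

theorem up (j : ℕ) (hg : g ∈ X s) (q : t % 16 = (j * 2 + 1 * s) % 16 := by omega) : cc ρ j g ∈ X t :=
  (F.S.pow M.eq j).up hg q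

theorem uV (j : ℕ) (hg : g ∈ V X s) (q : t % 16 = (j * 2 + 1 * s) % 16 := by omega) : cc ρ j g ∈ V X t :=
  (F.S.pow M.eq j).V hg q

theorem mk' (j : ℕ) (H : Mk X s κ u l (ρ ^ i * n)) (q : t % 16 = (j * 2 + 1 * s) % 16 := by omega) :
    Mk X t (cc ρ j κ) (cc ρ j u) (cc ρ j l) (ρ ^ (i + 2 * j) * n) := F.cm j i ▸ H.cj (F.S.pow M.eq j) q

theorem k0 (j : ℕ) (H : Mk X 0 κ u (cc ρ 4 l) n) (q : t = 2 * j := by omega) :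
    Mk X t (cc ρ j κ) (cc ρ j u) (cc ρ ((j + 4) % 8) l) (ρ ^ t * n) := by
  simpa only [← F.cc_cc, zero_add, q] using F.mk' M (i := 0) (t := 2 * j) j (by simpa using H)

theorem k1 (j : ℕ) (q : t = 1 + 2 * j := by omega) :
    Mk X t (cc ρ ((j + 4) % 8) e') (cc ρ j e') (cc ρ ((j + 4) % 8) e') (ρ ^ t * n) := by
  simpa only [← F.cc_cc, q] using F.mk' M (i := 1) (t := 1 + 2 * j) j (by simpa using F.H1)

theorem fm : f ∈ X 0 := by simpa [F.cc_cc, cc_zero] using F.up M (t := 0) 4 F.H0.k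

theorem Hf : Mk X 0 (cc ρ 4 f⁻¹) f (cc ρ 4 e) n := by
  have := F.mk' M (i := 0) (t := 0) 4 (by simpa using M.left F.H0)
  have q := F.mc (F.n0 _ (inv_mem (F.fm M))) 0 4
  rw [mi_ap, pow_zero, one_mul] at q
  simpa [F.cc_cc, cc_zero, F.r8, ← map_inv, q] using this

omit F in
theorem _root_.CF.Oc.H8.sh2 {τ : G} (H : Mk X t κ u l n) (hv : v ∈ X (t + 7)) (hg : g ∈ Yy X (t + 1) 8)
    (hτ : τ ∈ Yy X 8 (t + 8)) (q : u⁻¹ * v * u = g * τ) (q' : n⁻¹ * v * n = x) (h : t < 7 := by omega) :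
    ∃ g' ∈ Yy X (t + 1 + 1) 8, g = x * g' ∧ x⁻¹ * l * x = g' * (τ * l) ∧ τ * l ∈ Yy X 8 (t + 1 + 8) := by
  obtain ⟨y, h1, g, h2, rfl⟩ := M.dec (by omega) hg
  obtain ⟨rfl, e⟩ := M.sh H hv h1 (mul_mem (mo h2) (mo hτ)) (by rw [q, mul_assoc])
  exact ⟨g, h2, by rw [q'], by rw [← q', e, mul_assoc], mul_mem (mo hτ) (mY H.r)⟩

theorem base {κ' κ'' d : G} (H : Mk X 0 κ a (cc ρ 4 b) n) (H' : Mk X 0 κ' b (cc ρ 4 c) n) (H'' : Mk X 0 κ'' c (cc ρ 4 d) n) :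
    e'⁻¹ * cc ρ 4 a * e' = cc ρ 1 a * (cc ρ 1 e' * cc ρ 2 b * cc ρ 2 e' * cc ρ 3 c * cc ρ 3 e') * cc ρ 4 a := by
  have q3 := F.mc' (F.n1 e' F.H1.m)
  have h1 := F.up M (t := 8) 4 H.m
  obtain ⟨g1, k1, e1, e2, t1⟩ := M.sh2 (F.k1 M 0) h1 (M.cm (inv_mem F.H1.m) h1) (mY h1) (by rw [cc_zero]; group)
    (F.mc' (F.n0 a H.m) 1 4)
  obtain ⟨g2, k2, rfl, e2, t2⟩ := M.sh2 (F.k0 M 1 H) (F.up M 4 F.H1.m) k1 t1 e2 (q3 2 4)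
  obtain ⟨g3, k3, rfl, e2, t3⟩ := M.sh2 (F.k1 M 1) (F.up M 5 H'.m) k2 t2 e2 (F.mc' (F.n0 b H'.m) 3 5)
  obtain ⟨g4, k4, rfl, e2, t4⟩ := M.sh2 (F.k0 M 2 H') (F.up M 5 F.H1.m) k3 t3 e2 (q3 4 5)
  obtain ⟨g5, k5, rfl, e2, t5⟩ := M.sh2 (F.k1 M 2) (F.up M 6 H''.m) k4 t4 e2 (F.mc' (F.n0 c H''.m) 5 6)
  obtain ⟨g6, k6, rfl, -⟩ := M.sh2 (F.k0 M 3 H'') (F.up M 6 F.H1.m) k5 t5 e2 (q3 6 6)
  rw [show e'⁻¹ * cc ρ 4 a * e' = ⁅e'⁻¹, cc ρ 4 a⁆ * cc ρ 4 a by group, e1, Yy_self le_rfl k6]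
  simp only [mul_assoc, mul_one]

end Fr

end CF.Oc
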