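import Cfsg.Agent.Mp.OD

/-! Moufang octagons: the commutator relations are determined by a few base relations. -/

set_option autoImplicit false

namespace CF.Oc

open CF.Tb CF.Hx Subgroup
open scoped commutatorElement

variable {G : Type*} [Group G] {K : Type*} [Field K] {σ : K →+* K} {i j k r s t a b d : ℕ}
  {g h n ρ p q p' q' : G} {x Y z : K → G} {χ χ' : ℕ → K} {c w : K}

/-- characters of the standard tori -/
def ch (σ : K →+* K) (w : K) (j : ℕ) : K :=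
  match j % 8 with
  | 0 => (σ w)⁻¹ | 1 => w⁻¹ | 2 => 1 | 3 => w | 4 => σ w | 5 => w | 6 => 1 | _ => w⁻¹

theorem ch_ne (h : w ≠ 0) (j : ℕ) : ch σ w j ≠ 0 := by unfold ch; split <;> simp [h]

theorem ch_eq (e : i % 8 = j % 8 := by omega) : ch σ w i = ch σ w j := by rw [ch, ch, e]

/-- torus elements -/
structure To (ρ : G) (x Y z : K → G) (χ : ℕ → K) (h : G) : Prop where
  ne : ∀ j, χ j ≠ 0
  x : ∀ j a, h * cc ρ j (x a) * h⁻¹ = cc ρ j (x (χ j * a))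
  y : ∀ j a, h * cc ρ j (Y a) * h⁻¹ = cc ρ j (Y (χ (j + 4) * a))
  z : ∀ j a, h * cc ρ j (z a) * h⁻¹ = cc ρ j (z (χ (j + 2) / χ (j + 3) * a))

theorem To.mul {h' : G} (T : To ρ x Y z χ h) (T' : To ρ x Y z χ' h') : To ρ x Y z (fun j => χ j * χ' j) (h * h') := by
  have e : ∀ g, h * h' * g * (h * h')⁻¹ = h * (h' * g * h'⁻¹) * h⁻¹ := fun g => by group
  exact ⟨fun j => mul_ne_zero (T.ne j) (T'.ne j), fun j a => by rw [e, T'.x, T.x, mul_assoc],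
    fun j a => by rw [e, T'.y, T.y, mul_assoc], fun j a => by rw [e, T'.z, T.z, ← mul_assoc, mul_div_mul_comm]⟩

theorem To.rot (T : To ρ x Y z χ h) (k : ℕ) : To ρ x Y z (fun j => χ (j + k)) ((ρ ^ k)⁻¹ * h * ρ ^ k) := by
  have e : ∀ j g g', h * cc ρ (j + k) g * h⁻¹ = cc ρ (j + k) g' →
      (ρ ^ k)⁻¹ * h * ρ ^ k * cc ρ j g * ((ρ ^ k)⁻¹ * h * ρ ^ k)⁻¹ = cc ρ j g' := fun j g g' e =>
    calc _ = (ρ ^ k)⁻¹ * (h * cc ρ (j + k) g * h⁻¹) * ρ ^ k := by simp only [cc_ap]; group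
      _ = _ := by rw [e, cc_ap, cc_ap]; group
  exact ⟨fun j => T.ne _, fun j a => e _ _ _ (T.x _ a), fun j a => e _ _ _ (add_right_comm j k 4 ▸ T.y _ a),
    fun j a => e _ _ _ (add_right_comm j k 2 ▸ add_right_comm j k 3 ▸ T.z _ a)⟩

/-- the coordinates -/
def gn (ρ : G) (x Y z : K → G) (t : ℕ) (a b : K) : G := cc ρ (t / 2) (if t % 2 = 0 then x a * Y b else z a)

/-- the parameter change -/
def io (σ : K →+* K) (b : K) : K := (b * σ b)⁻¹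

/-- Tits endomorphisms of finite fields -/
structure Ti (σ : K →+* K) : Prop where
  fin : Finite K
  two : ∀ a : K, a + a = 0
  sq : ∀ a, σ (σ a) = a * a

namespace Ti

variable (T : Ti σ)
include T

theorem sur {f : K → K} (h1 : ∀ a b, f (a * b) = f a * f b) (h0 : f 0 = 0) (h : ∀ a, f a = 0 → a = 0)
    (h2 : ∀ a, f a = 1 → a = 1) (c : K) : ∃ a, f a = c := by
  haveI := T.fin
  refine Finite.injective_iff_surjective.1 (fun a b e => ?_) c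
  by_cases q : b = 0
  · rw [q, h a (by rw [e, q, h0])]
  have := h1 b b⁻¹
  refine (mul_inv_eq_one₀ q).1 (h2 _ ?_)
  rw [h1, e, ← h1, mul_inv_cancel₀ q]
  exact mul_left_cancel₀ (mt (h 1) one_ne_zero) (by rw [← h1, mul_one, mul_one])

theorem ss (c : K) : ∃ a, σ a = c := haveI := T.fin; Finite.injective_iff_surjective.1 σ.injective c

theorem ios (c : K) : ∃ b, io σ b = c := T.sur (fun a b => by simp only [io, map_mul]; ring) (by simp [io])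
  (fun a e => by simpa [io] using e) (fun a e => by
    rw [io, inv_eq_one] at e
    have := congrArg σ e
    rw [map_mul, T.sq, map_one] at this
    linear_combination this - a * e) c

theorem dvs (h : c ≠ 0) : ∃ w, w ≠ 0 ∧ σ w / w = c := by
  obtain ⟨w, e⟩ := T.sur (f := fun w => σ w / w) (fun a b => by simp only [map_mul]; ring) (by simp)
    (fun a e => by simpa using e) (fun a e => by
      have q : a ≠ 0 := by rintro rfl; simp at e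
      have := T.sq a
      rw [(div_eq_one_iff_eq q).1 e, (div_eq_one_iff_eq q).1 e] at this
      exact (mul_eq_left₀ q).1 this.symm) c
  exact ⟨w, by rintro rfl; exact h (by simpa using e.symm), e⟩

theorem d1 {b : K} (h : b ≠ 0) : io σ b / σ (io σ b) = b ∧ σ (io σ b) / io σ b ^ 2 = σ b ∧ io σ b ≠ 0 := by
  have := (map_ne_zero σ).2 h
  simp only [io, map_inv₀, map_mul, T.sq]
  exact ⟨by field_simp, by field_simp, by simp [h]⟩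

end Ti

/-- the base relations -/
structure OR (σ : K →+* K) (ρ n : G) (x Y z : K → G) : Prop extends Dh ρ n where
  xa : ∀ a b, x (a + b) = x a * x b
  za : ∀ a b, z (a + b) = z a * z b
  y0 : Y 0 = 1
  law : ∀ a b, Y (io σ a) * Y (io σ b) = x (a * σ b) * Y (io σ (a + b))
  nx : ∀ a, n * x a * n⁻¹ = cc ρ 4 (x a)
  ny : ∀ a, n * Y a * n⁻¹ = cc ρ 4 (Y a)
  nz : ∀ a, n * z a * n⁻¹ = cc ρ 3 (z a)
  tor : ∀ w, w ≠ 0 → ∃ h, To ρ x Y z (ch σ w) h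
  cm : ∀ s t, (t = s + 1 ∨ t = s + 4 ∨ t = s + 2 ∧ s % 2 = 1) → ∀ a b c d, Commute (gn ρ x Y z s a b) (gn ρ x Y z t c d)
  cx : ∀ j t, t ≤ 2 * j + 4 → 2 * j ≤ t + 4 → ∀ a c d, Commute (cc ρ j (x a)) (gn ρ x Y z t c d)
  b14 : ⁅z 1, cc ρ 2 (Y 1)⁆ = cc ρ 1 (x 1)
  b16 : ⁅z 1, cc ρ 3 (x 1)⁆ = cc ρ 2 (x 1)
  b16' : ⁅z 1, cc ρ 3 (Y 1)⁆ = cc ρ 1 (x 1) * cc ρ 1 (z 1)
  b46 : ⁅cc ρ 2 (Y 1), cc ρ 3 (Y 1)⁆ = cc ρ 2 (z 1)
  b17 : ⁅z 1, cc ρ 3 (z 1)⁆ = cc ρ 1 (z 1) * cc ρ 2 (z 1)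
  b18 : ∀ a b c, (a = x 1 ∧ b = (Y 1)⁻¹ ∧ c = Y 1 ∨ a = Y 1 ∧ b = x 1 ∧ c = (Y 1)⁻¹ ∨ a = (Y 1)⁻¹ ∧ b = Y 1 ∧ c = x 1) →
    (z 1)⁻¹ * cc ρ 4 a * z 1 = cc ρ 1 a * (cc ρ 1 (z 1) * cc ρ 2 b * cc ρ 2 (z 1) * cc ρ 3 c * cc ρ 3 (z 1)) * cc ρ 4 a

theorem OR.prod {G' : Type*} [Group G'] {ρ' n' : G'} {x' Y' z' : K → G'} (O : OR σ ρ n x Y z) (O' : OR σ ρ' n' x' Y' z') :
    OR σ (ρ, ρ') (n, n') (fun a => (x a, x' a)) (fun a => (Y a, Y' a)) fun a => (z a, z' a) := by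
  have e : ∀ t a b, gn (ρ, ρ') (fun a => (x a, x' a)) (fun a => (Y a, Y' a)) (fun a => (z a, z' a)) t a b =
      (gn ρ x Y z t a b, gn ρ' x' Y' z' t a b) := fun t a b => by unfold gn; split <;> rfl
  refine ⟨⟨Prod.ext O.r8 O'.r8, Prod.ext O.nn O'.nn, Prod.ext O.nr O'.nr⟩, fun a b => Prod.ext (O.xa a b) (O'.xa a b),
    fun a b => Prod.ext (O.za a b) (O'.za a b), Prod.ext O.y0 O'.y0, fun a b => Prod.ext (O.law a b) (O'.law a b),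
    fun a => Prod.ext (O.nx a) (O'.nx a), fun a => Prod.ext (O.ny a) (O'.ny a), fun a => Prod.ext (O.nz a) (O'.nz a),
    fun w q => ?_, fun s t q a b c d => ?_, fun j t q q' a c d => ?_, Prod.ext O.b14 O'.b14, Prod.ext O.b16 O'.b16,
    Prod.ext O.b16' O'.b16', Prod.ext O.b46 O'.b46, Prod.ext O.b17 O'.b17, fun a b c q => Prod.ext (O.b18 _ _ _ ?_) (O'.b18 _ _ _ ?_)⟩
  · obtain ⟨h, T⟩ := O.tor w q
    obtain ⟨h', T'⟩ := O'.tor w q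
    exact ⟨(h, h'), T.ne, fun j a => Prod.ext (T.x j a) (T'.x j a), fun j a => Prod.ext (T.y j a) (T'.y j a),
      fun j a => Prod.ext (T.z j a) (T'.z j a)⟩
  · rw [e, e]; exact Prod.ext (O.cm s t q a b c d) (O'.cm s t q a b c d)
  · rw [e]; exact Prod.ext (O.cx j t q q' a c d) (O'.cx j t q q' a c d)
  all_goals rcases q with ⟨rfl, rfl, rfl⟩ | ⟨rfl, rfl, rfl⟩ | ⟨rfl, rfl, rfl⟩ <;> simp

/-- closure under commutators -/
def Cl (D : ℕ → Subgroup G) (a b : ℕ) : Prop := ∀ p ∈ D a, ∀ q ∈ D b, ⁅p, q⁆ ∈ Yy D (a + 1) b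

section

variable {D : ℕ → Subgroup G} {a' : ℕ}

theorem Cl.up {c : ℕ} (H : Cl D a (a + d)) (S : Sy D 1 c g) (e : a' % 16 = (c + a) % 16) : Cl D a' (a' + d) := fun p hp q hq => by
  simpa [commutatorElement_def, mul_assoc] using conj_Yy (X' := D) (c := a' + 1) (d := a' + d) (n := g)
    (fun t _ _ y hy => mY (S.up (t := t - a + a') hy)) (H _ (S.dn hp) _ (S.dn hq))

theorem Cl.rf {c : ℕ} (H : Cl D a (a + d)) (S : Sy D 15 c g) (e : (a' + d) % 16 = (c + 15 * a) % 16) : Cl D a' (a' + d) :=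
  fun p hp q hq => by
    simpa [commutatorElement_def, mul_assoc] using inv_mem (conj_Yy (X' := D) (c := a' + 1) (d := a' + d) (n := g)
      (fun t _ _ y hy => mY (S.up (t := a' + (a + d) - t) hy)) (H _ (S.dn hq) _ (S.dn hp)))

theorem nm (P : ∀ k, 0 < k → k < d → ∀ a, Cl D a (a + k)) (hg : g ∈ D a ∨ g ∈ D (a + d)) (hh : h ∈ Yy D (a + 1) (a + d)) :
    g * h * g⁻¹ ∈ Yy D (a + 1) (a + d) := conj_Yy (fun t _ _ y hy => hg.elim (fun hg => by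
  simpa [commutatorElement_def] using mul_mem (mo (c := a + 1) (d := a + d)
    (P (t - a) (by omega) (by omega) a g hg y (by rwa [show a + (t - a) = t by omega]))) (mY hy)) fun hg => by
  simpa [commutatorElement_def, mul_assoc] using mul_mem (mY hy) (mo (c := a + 1) (d := a + d)
    (P (a + d - t) (by omega) (by omega) t _ (inv_mem hy) g (by rwa [show t + (a + d - t) = a + d by omega])))) hh

theorem cjR (S : Sy D 1 0 h) (H : ⁅p, q⁆ ∈ Yy D a b) (e : h * p * h⁻¹ = p') (e' : h * q * h⁻¹ = q') : ⁅p', q'⁆ ∈ Yy D a b := by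
  simpa [← e, ← e', commutatorElement_def, mul_assoc] using S.Y H

end

namespace OR

variable (O : OR σ ρ n x Y z) (T : Ti σ)
include O

theorem x0 : x 0 = 1 := by simpa using O.xa 0 0

theorem z0 : z 0 = 1 := by simpa using O.za 0 0

theorem cxy (a b : K) : Commute (x a) (Y b) := by simpa [gn, cc_zero, O.x0] using O.cx 0 0 (by omega) (by omega) a 0 b

include T

theorem xi (a : K) : (x a)⁻¹ = x a := inv_eq_of_mul_eq_one_right (by rw [← O.xa, T.two, O.x0])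

theorem zi (a : K) : (z a)⁻¹ = z a := inv_eq_of_mul_eq_one_right (by rw [← O.za, T.two, O.z0])

theorem yy (b : K) : Y (io σ b) * Y (io σ b) = x (b * σ b) := by rw [O.law, T.two, io, zero_mul, inv_zero, O.y0, mul_one]

/-- the root groups -/
def D (t : ℕ) : Subgroup G where
  carrier := {g | ∃ a b, gn ρ x Y z t a b = g}
  one_mem' := ⟨0, 0, by simp [gn, O.x0, O.y0, O.z0]⟩
  mul_mem' := by
    rintro _ _ ⟨a, b, rfl⟩ ⟨a', b', rfl⟩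
    obtain ⟨b, rfl⟩ := T.ios b
    obtain ⟨b', rfl⟩ := T.ios b'
    by_cases e : t % 2 = 0
    · exact ⟨a + a' + b * σ b', io σ (b + b'), by simp only [gn, if_pos e, ← map_mul, O.xa, mul_assoc, ← O.law,
        (O.cxy a' _).symm.left_comm]⟩
    · exact ⟨a + a', 0, by simp only [gn, if_neg e, O.za, map_mul]⟩
  inv_mem' := by
    rintro _ ⟨a, b, rfl⟩
    obtain ⟨b, rfl⟩ := T.ios b
    by_cases e : t % 2 = 0
    · refine ⟨a + b * σ b, io σ b, ?_⟩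
      simp only [gn, if_pos e, ← map_inv]
      rw [EmbeddingLike.apply_eq_iff_eq, eq_inv_iff_mul_eq_one, mul_assoc, (O.cxy a _).symm.left_comm, O.yy T, ← O.xa, ← O.xa,
        T.two, O.x0]
    · exact ⟨a, 0, by simp only [gn, if_neg e, ← map_inv, O.zi T]⟩

theorem mx (j : ℕ) (a : K) (e : t = 2 * j := by omega) : cc ρ j (x a) ∈ O.D T t :=
  ⟨a, 0, by rw [gn, if_pos (by omega), O.y0, mul_one, show t / 2 = j by omega]⟩

theorem my (j : ℕ) (a : K) (e : t = 2 * j := by omega) : cc ρ j (Y a) ∈ O.D T t :=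
  ⟨0, a, by rw [gn, if_pos (by omega), O.x0, one_mul, show t / 2 = j by omega]⟩

theorem mz (j : ℕ) (a : K) (e : t = 2 * j + 1 := by omega) : cc ρ j (z a) ∈ O.D T t :=
  ⟨a, 0, by rw [gn, if_neg (by omega), show t / 2 = j by omega]⟩

theorem sy {ε c : ℕ} (hε : ε = 1 ∨ ε = 15) (H : ∀ r r', r' % 16 = (c + ε * r) % 16 → ∃ α β, α ≠ 0 ∧ β ≠ 0 ∧
    ∀ a b, g * gn ρ x Y z r a b * g⁻¹ = gn ρ x Y z r' (α * a) (β * b)) : Sy (O.D T) ε c g := ⟨hε, fun r r' e y => by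
  obtain ⟨α, β, h1, h2, h3⟩ := H r r' e
  exact ⟨fun ⟨a, b, q⟩ => ⟨_, _, q ▸ (h3 a b).symm⟩, fun ⟨a, b, q⟩ => ⟨α⁻¹ * a, β⁻¹ * b, by
    rw [← mul_right_inj g, ← mul_left_inj g⁻¹, h3, mul_inv_cancel_left₀ h1, mul_inv_cancel_left₀ h2, q]⟩⟩⟩

theorem sr : Sy (O.D T) 1 2 ρ := O.sy T (.inl rfl) fun r r' e => ⟨1, 1, one_ne_zero, one_ne_zero, fun a b => by
  rw [one_mul, one_mul, gn, gn, show r' % 2 = r % 2 by omega, O.ce (i := r' / 2) (j := 1 + r / 2), cc_ap, cc_ap]; group⟩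

theorem sn : Sy (O.D T) 15 8 n := O.sy T (.inr rfl) fun r r' e => ⟨1, 1, one_ne_zero, one_ne_zero, fun a b => by
  rw [one_mul, one_mul, gn, gn, show r' % 2 = r % 2 by omega]
  split
  · simpa only [mi_ap, pow_zero, one_mul] using (O.mc (k := 4) (g := x a * Y b) (by
      rw [← conj_mul, O.nx, O.ny, map_mul]) 0 (r / 2)).trans (O.ce (j := r' / 2))
  · simpa only [mi_ap, pow_zero, one_mul] using (O.mc (O.nz a) 0 (r / 2)).trans (O.ce (j := r' / 2))⟩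

theorem st (H : To ρ x Y z χ h) : Sy (O.D T) 1 0 h := O.sy T (.inl rfl) fun r r' e => by
  have : ∀ a b, gn ρ x Y z r' a b = gn ρ x Y z r a b := fun a b => by rw [gn, gn, show r' % 2 = r % 2 by omega,
    O.ce (i := r' / 2) (j := r / 2)]
  by_cases q : r % 2 = 0
  · exact ⟨_, _, H.ne _, H.ne _, fun a b => by rw [this, gn, gn, if_pos q, if_pos q, map_mul, ← conj_mul, H.x, H.y, map_mul]⟩
  · exact ⟨_, 1, div_ne_zero (H.ne _) (H.ne _), one_ne_zero, fun a b => by rw [this, gn, gn, if_neg q, if_neg q, H.z]⟩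

theorem all {a' : ℕ} (H : Cl (O.D T) a (a + d)) (e : (a + a') % 2 = 0 ∨ (a + a' + d) % 2 = 0) : Cl (O.D T) a' (a' + d) := by
  have S := (O.sr T).pow fun a b e => by
    ext g; simpa using ((O.st T (h := 1) (χ := fun _ => 1) ⟨by simp, by simp, by simp, by simp⟩).2 a b (by omega) g)
  exact e.elim (fun _ => H.up (S ((a' + 15 * a) / 2)) (by omega)) fun _ =>
    H.rf ((S ((a' + d + a + 8) / 2)).mul (O.sn T) 15 (a' + d + a)) (by omega)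

omit T in
theorem tk (k : ℕ) (hw : w ≠ 0) : ∃ h, To ρ x Y z (fun j => ch σ w (j + k)) h := let ⟨_, H⟩ := O.tor w hw; ⟨_, H.rot k⟩

theorem red0 (P : ∀ k, 0 < k → k < d → ∀ a, Cl (O.D T) a (a + k)) (j : ℕ) (e : a + d = 2 * j)
    (H : ∀ q, q = cc ρ j (x 1) ∨ q = cc ρ j (Y 1) → ∀ p ∈ O.D T a, ⁅p, q⁆ ∈ Yy (O.D T) (a + 1) (a + d)) :
    Cl (O.D T) a (a + d) := by
  rintro p hp _ ⟨c, c', rfl⟩
  rw [gn, if_pos (by omega), show (a + d) / 2 = j by omega, map_mul, show ∀ q q' : G, ⁅p, q * q'⁆ = ⁅p, q⁆ * (q * ⁅p, q'⁆ * q⁻¹)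
    from fun _ _ => by group]
  refine mul_mem ?_ (nm P (.inr (O.mx T j c)) ?_)
  · by_cases q : c = 0
    · simp [q, O.x0]
    obtain ⟨h, S⟩ := O.tk (7 * j + 3) q
    exact cjR (O.st T S) (H _ (.inl rfl) _ ((O.st T S).dn hp)) (by group) (by rw [S.x, ch_eq (j := 3), mul_one]; rfl)
  · by_cases q : c' = 0
    · simp [q, O.y0]
    obtain ⟨h, S⟩ := O.tk (7 * j + 7) q
    exact cjR (O.st T S) (H _ (.inr rfl) _ ((O.st T S).dn hp)) (by group) (by rw [S.y, ch_eq (j := 3), mul_one]; rfl)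

theorem red1 (H : ∀ c, c ≠ 0 → ∃ χ h, To ρ x Y z χ h ∧ χ 2 / χ 3 = c ∧ h * q * h⁻¹ = q) (B : ⁅z 1, q⁆ ∈ Yy (O.D T) 2 b) :
    ∀ p ∈ O.D T 1, ⁅p, q⁆ ∈ Yy (O.D T) 2 b := by
  rintro _ ⟨c, c', rfl⟩
  by_cases e : c = 0
  · simp [gn, e, O.z0]
  obtain ⟨χ, h, S, rfl, e'⟩ := H c e
  exact cjR (O.st T S) B (by simpa [cc_zero, gn] using S.z 0 1) e'

omit O T in
theorem fx (S : To ρ x Y z χ h) (H : q = cc ρ j (x 1) ∨ q = cc ρ j (Y 1)) (e : χ j = 1) (e' : χ (j + 4) = 1) :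
    h * q * h⁻¹ = q := by
  rcases H with rfl | rfl
  exacts [by rw [S.x, e, mul_one], by rw [S.y, e', mul_one]]

theorem red2 (P : ∀ k, 0 < k → k < d → ∀ a, Cl (O.D T) a (a + k)) (i j k : ℕ) (e : a = 2 * i ∧ a + d = 2 * j)
    (H : ∀ w, ch σ w (i + k) = w⁻¹ ∧ ch σ w (i + 4 + k) = w ∧ ch σ w (j + k) = 1 ∧ ch σ w (j + 4 + k) = 1)
    (B : ∀ p q, p = cc ρ i (x 1) ∨ p = cc ρ i (Y 1) → q = cc ρ j (x 1) ∨ q = cc ρ j (Y 1) →
      ⁅p, q⁆ ∈ Yy (O.D T) (a + 1) (a + d)) : Cl (O.D T) a (a + d) := O.red0 T P j e.2 fun q hq => by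
  rintro _ ⟨c, c', rfl⟩
  rw [gn, if_pos (by omega), show a / 2 = i by omega, map_mul, show ∀ p p' : G, ⁅p * p', q⁆ = p * ⁅p', q⁆ * p⁻¹ * ⁅p, q⁆
    from fun _ _ => by group]
  refine mul_mem (nm P (.inl (O.mx T i c)) ?_) ?_
  · by_cases q : c' = 0
    · simp [q, O.y0]
    obtain ⟨h, S⟩ := O.tk k q
    exact cjR (O.st T S) (B _ _ (.inr rfl) hq) (by rw [S.y, (H _).2.1, mul_one]) (fx S hq (H _).2.2.1 (H _).2.2.2)
  · by_cases q : c = 0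
    · simp [q, O.x0]
    obtain ⟨h, S⟩ := O.tk k (inv_ne_zero q)
    exact cjR (O.st T S) (B _ _ (.inl rfl) hq) (by rw [S.x, (H _).1, mul_one, inv_inv]) (fx S hq (H _).2.2.1 (H _).2.2.2)

theorem red3 (P : ∀ k, 0 < k → k < d → ∀ a, Cl (O.D T) a (a + k)) (j k : ℕ) (e : 1 + d = 2 * j)
    (H : ∀ c, c ≠ 0 → ∃ w, w ≠ 0 ∧ ch σ w (2 + k) / ch σ w (3 + k) = c) (H' : ∀ w, ch σ w (j + k) = 1 ∧ ch σ w (j + 4 + k) = 1)
    (B : ⁅z 1, cc ρ j (x 1)⁆ ∈ Yy (O.D T) 2 (1 + d)) (B' : ⁅z 1, cc ρ j (Y 1)⁆ ∈ Yy (O.D T) 2 (1 + d)) (a : ℕ) :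
    Cl (O.D T) a (a + d) := O.all T (O.red0 T P j e fun q hq => O.red1 T (fun c hc => by
      obtain ⟨w, h1, h2⟩ := H c hc
      obtain ⟨h, S⟩ := O.tk k h1
      exact ⟨_, h, S, h2, fx S hq (H' w).1 (H' w).2⟩) (hq.elim (· ▸ B) (· ▸ B'))) (by omega)

theorem b8 (H : g = x 1 ∨ g = Y 1 ∨ g = (Y 1)⁻¹ ∨ g = 1) :
    ∃ u ∈ Yy (O.D T) 3 8, (z 1)⁻¹ * cc ρ 4 g * z 1 = cc ρ 1 g * u * cc ρ 4 g := by
  have k : ∀ {b c}, cc ρ 2 b ∈ O.D T 4 → cc ρ 3 c ∈ O.D T 6 →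
      cc ρ 1 (z 1) * cc ρ 2 b * cc ρ 2 (z 1) * cc ρ 3 c * cc ρ 3 (z 1) ∈ Yy (O.D T) 3 8 := fun h h' => mul_mem (mul_mem (mul_mem
    (mul_mem (mY (O.mz T 1 1 rfl)) (mY h)) (mY (O.mz T 2 1 rfl))) (mY h')) (mY (O.mz T 3 1 rfl))
  rcases H with rfl | rfl | rfl | rfl
  exacts [⟨_, k (map_inv (cc ρ 2) _ ▸ inv_mem (O.my T 2 1)) (O.my T 3 1), O.b18 _ _ _ (.inl ⟨rfl, rfl, rfl⟩)⟩,
    ⟨_, k (O.mx T 2 1) (map_inv (cc ρ 3) _ ▸ inv_mem (O.my T 3 1)), O.b18 _ _ _ (.inr (.inl ⟨rfl, rfl, rfl⟩))⟩,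
    ⟨_, k (O.my T 2 1) (O.mx T 3 1), O.b18 _ _ _ (.inr (.inr ⟨rfl, rfl, rfl⟩))⟩, ⟨1, one_mem _, by simp⟩]

theorem b28 (P : ∀ k, 0 < k → k < 6 → ∀ a, Cl (O.D T) a (a + k)) {g' : G} (H : g = x 1 ∨ g = Y 1 ∨ g = (Y 1)⁻¹ ∨ g = 1)
    (H' : g' = x 1 ∨ g' = Y 1 ∨ g' = (Y 1)⁻¹ ∨ g' = 1) (H'' : g * g' = x 1 ∨ g * g' = Y 1 ∨ g * g' = (Y 1)⁻¹ ∨ g * g' = 1)
    (h1 : cc ρ 1 g'⁻¹ ∈ O.D T 2) (h2 : cc ρ 4 g ∈ O.D T 8) : ⁅cc ρ 1 g'⁻¹, cc ρ 4 g⁆ ∈ Yy (O.D T) 3 8 := by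
  obtain ⟨u, k1, e1⟩ := O.b8 T H
  obtain ⟨u', k2, e2⟩ := O.b8 T H'
  obtain ⟨u'', k3, e3⟩ := O.b8 T H''
  rw [map_mul, map_mul, show ∀ a b c : G, a⁻¹ * (b * c) * a = a⁻¹ * b * a * (a⁻¹ * c * a) from fun _ _ _ => by group, e1, e2,
    ← mul_assoc, ← mul_assoc, ← mul_assoc, mul_left_inj, mul_assoc, mul_assoc, mul_assoc, mul_assoc, mul_assoc, mul_right_inj,
    ← eq_inv_mul_iff_mul_eq, ← mul_assoc, ← eq_mul_inv_iff_mul_eq] at e3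
  have := mul_mem (mul_mem (nm (a := 2) P (.inl h1) (inv_mem k1)) k3) (nm (a := 2) P (.inr h2) (inv_mem k2))
  rwa [commutatorElement_def, map_inv, inv_inv, mul_assoc _ _ (cc ρ 1 g'), e3, show ∀ a b c d e : G,
    a⁻¹ * (b⁻¹ * (a * (c * d)) * e⁻¹) * d⁻¹ = a⁻¹ * b⁻¹ * a⁻¹⁻¹ * c * (d * e⁻¹ * d⁻¹) from fun _ _ _ _ _ => by group, ← map_inv]

theorem cl (d : ℕ) : 0 < d → d < 8 → ∀ a, Cl (O.D T) a (a + d) := by
  induction d using Nat.strong_induction_on with | _ d ih => ?_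
  intro h0 h8 a
  have P : ∀ k, 0 < k → k < d → ∀ a, Cl (O.D T) a (a + k) := fun k a b => ih k b a (by omega)
  have c1 : ∀ {p q : G} {a b}, Commute p q → ⁅p, q⁆ ∈ Yy (O.D T) a b := fun h => by
    rw [commutatorElement_eq_one_iff_commute.2 h]; exact one_mem _
  have cm : d = 1 ∨ d = 4 ∨ d = 2 ∧ a % 2 = 1 → Cl (O.D T) a (a + d) := by
    rintro e _ ⟨_, _, rfl⟩ _ ⟨_, _, rfl⟩; exact c1 (O.cm _ _ (by omega) _ _ _ _)
  have cx : ∀ j t, ∀ g ∈ O.D T t, t ≤ 2 * j + 4 → 2 * j ≤ t + 4 → Commute (cc ρ j (x 1)) g := by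
    rintro j t _ ⟨_, _, rfl⟩ e e'; exact O.cx _ _ e e' _ _ _
  have z1 : z 1 ∈ O.D T 1 := by simpa only [cc_zero] using O.mz T (t := 1) 0 1
  have y2 : Y 1 * Y 1 = x 1 := by simpa [io] using O.yy T 1
  have dv : ∀ c : K, c ≠ 0 → ∃ w : K, w ≠ 0 ∧ w⁻¹ = c := fun c h => ⟨c⁻¹, inv_ne_zero h, inv_inv c⟩
  interval_cases d
  · exact cm (by omega)
  · refine (em _).elim (fun e => cm (.inr (.inr ⟨rfl, e⟩))) fun e => O.all T (a := 4) (O.red2 T P 2 3 7 ⟨rfl, rfl⟩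
      (fun w => ⟨rfl, rfl, rfl, rfl⟩) ?_) (by omega)
    rintro _ _ (rfl | rfl) (rfl | rfl)
    exacts [c1 (cx 2 6 _ (O.mx T 3 1) (by omega) (by omega)), c1 (cx 2 6 _ (O.my T 3 1) (by omega) (by omega)),
      c1 (cx 3 4 _ (O.my T 2 1) (by omega) (by omega)).symm, O.b46 ▸ mY (O.mz T 2 1 rfl)]
  · exact O.red3 T P 2 0 rfl (fun c h => by simpa [ch] using dv c h) (fun w => ⟨rfl, rfl⟩)
      (c1 (cx 2 1 _ z1 (by omega) (by omega)).symm) (O.b14 ▸ mY (O.mx T 1 1 rfl)) a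
  · exact cm (by omega)
  · exact O.red3 T P 3 7 rfl (fun c h => by simpa [ch] using dv c h) (fun w => ⟨rfl, rfl⟩)
      (O.b16 ▸ mY (O.mx T 2 1 rfl)) (O.b16' ▸ mul_mem (mY (O.mx T 1 1 rfl)) (mY (O.mz T 1 1 rfl))) a
  · by_cases e : a % 2 = 0
    · refine O.all T (a := 2) (O.red2 T P 1 4 6 ⟨rfl, rfl⟩ (fun w => ⟨rfl, rfl, rfl, rfl⟩) ?_) (by omega)
      have h1 := O.mx T (t := 2) 1 1
      have h2 := O.my T (t := 2) 1 1
      rw [← O.xi T] at h1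
      rw [← inv_inv (Y 1)] at h2
      rintro _ _ (rfl | rfl) (rfl | rfl)
      · simpa only [O.xi T] using O.b28 T P (.inl rfl) (.inl rfl) (by simp [← O.xa, T.two, O.x0]) h1 (O.mx T 4 1)
      · simpa only [O.xi T] using O.b28 T P (.inr (.inl rfl)) (.inl rfl) (.inr (.inr (.inl (by
          rw [eq_inv_iff_mul_eq_one, ← (O.cxy 1 1).eq, mul_assoc, y2, ← O.xa, T.two, O.x0])))) h1 (O.my T 4 1)
      · simpa only [inv_inv] using O.b28 T P (.inl rfl) (.inr (.inr (.inl rfl))) (by simp [← y2]) h2 (O.mx T 4 1)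
      · simpa only [inv_inv] using O.b28 T P (.inr (.inl rfl)) (.inr (.inr (.inl rfl))) (by simp) h2 (O.my T 4 1)
    · refine O.all T (a := 1) ?_ (by omega)
      rintro p hp _ ⟨c, c', rfl⟩
      by_cases q : c = 0
      · simp [gn, q, O.z0]
      obtain ⟨h, S⟩ := O.tk 0 q
      refine cjR (O.st T S) (O.red1 T (q := cc ρ 3 (z 1)) (fun c hc => ?_) (O.b17 ▸ mul_mem (mY (O.mz T 1 1 rfl))
        (mY (O.mz T 2 1 rfl))) _ ((O.st T S).dn hp)) (by group) (by simpa [ch, gn] using S.z 3 1)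
      obtain ⟨u, rfl⟩ := T.ss c
      obtain ⟨u, rfl⟩ := T.ss u
      have h1 : u ≠ 0 := by simpa using hc
      obtain ⟨w, h2, rfl⟩ := T.dvs h1
      obtain ⟨h, S⟩ := O.tk 0 (inv_ne_zero h1)
      obtain ⟨h', S'⟩ := O.tk 2 h2
      have := (map_ne_zero σ).2 h2
      exact ⟨_, _, S.mul S', by rw [T.sq]; simp [ch]; field_simp, by rw [(S.mul S').z]; congr 2; simp [ch]; field_simp⟩
  · obtain ⟨u, h1, e1⟩ := O.b8 T (.inl rfl)
    obtain ⟨v, h2, e2⟩ := O.b8 T (.inr (.inl rfl))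
    have k : ∀ {a b : G}, (z 1)⁻¹ * a * z 1 = b * a → ⁅z 1, a⁆ = b := fun e => by
      rw [commutatorElement_def, O.zi T, ← O.zi T, O.zi T, mul_inv_eq_iff_eq_mul, ← e, O.zi T]
    exact O.red3 T P 4 2 rfl (fun c h => by simpa [ch] using T.dvs h) (fun w => ⟨rfl, rfl⟩)
      (k e1 ▸ mul_mem (mY (O.mx T 1 1 rfl)) (mo h1)) (k e2 ▸ mul_mem (mY (O.my T 1 1 rfl)) (mo h2)) a

end OR

end CF.Oc
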