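import Cfsg.Agent.Mp.OE

/-! Moufang octagons: coordinates. -/

set_option autoImplicit false

namespace CF.Oc

open CF.Tb CF.Hx Subgroup
open scoped commutatorElement

variable {G : Type*} [Group G] {X : ℕ → Subgroup G} {K : Type*} [Field K] {σ : K →+* K} {i j k r t : ℕ}
  {g h u v n m κ l ρ e e' f : G} {x Y z : K → G} {φ : K → K} {s s' a a' b w : K}

theorem cj_inj (q : h * u * h⁻¹ = g) (q' : h * v * h⁻¹ = g) : u = v := by simpa using q.trans q'.symm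

/-- coordinates of the central root groups -/
structure C1 (X : ℕ → Subgroup G) (ρ e : G) (x : K → G) (φ : K → K) : Prop where
  ax : Ad x (V X 0)
  x1 : x 1 = e
  mu : ∀ s a κ l m, Mk X 0 κ (x s) l m → m⁻¹ * cc ρ 3 (x a) * m = cc ρ 1 (x (φ s * a))

theorem C1.ne (C : C1 X ρ e x φ) (h : s ≠ 0) (j : ℕ) : cc ρ j (x s) ≠ 1 := by
  rw [ne_eq, map_eq_one_iff _ (cc ρ j).injective, ← C.ax.zero, C.ax.inj.eq_iff]; exact h

theorem C1.inj (C : C1 X ρ e x φ) (h : cc ρ j (x a) = cc ρ j (x b)) : a = b := C.ax.inj ((cc ρ j).injective h)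

namespace Fr

variable (F : Fr X ρ n e e' f) (M : H8 X)
include F M

theorem ms (i : ℕ) : Sy X 15 (2 * i + 8) (ρ ^ i * n) := (F.S.pow M.eq i).mul F.H0.s _ _

theorem adc (h : Ad x (V X r)) (j : ℕ) (q : t % 16 = (j * 2 + 1 * r) % 16 := by omega) :
    Ad (fun a => cc ρ j (x a)) (V X t) :=
  h.conj fun _ => ⟨(F.uV M j · q), fun p => by simpa [mul_assoc] using (F.S.pow M.eq j).V' p q⟩

theorem ex1 (E : VE X) [Finite G] [Fintype K] (hK : Nat.card K = Nat.card (V X 0)) : ∃ (x : K → G) (φ : K → K),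
    C1 X ρ e x φ ∧ φ 1 = 1 ∧ (∀ a b, φ (a + b) = φ a + φ b) ∧ Function.Injective φ := by
  obtain ⟨L, _, _, k, z, h1, h2, h3, h4, h5⟩ := M.exK E F.H0 F.ve (F.uV M 3 F.ve) (by simpa using F.H0.ne)
  let ι : K ≃+* L := FiniteField.ringEquivOfCardEq (by rw [← Nat.card_eq_fintype_card, hK, h1.card, Nat.card_eq_fintype_card])
  have h6 := F.adc M (t := 0) h2 5
  have h7 : Ad (fun a => cc ρ 5 (z (ι a))) (V X 0) := ⟨fun a b => by rw [map_add, h6.add], h6.inj.comp ι.injective,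
    fun g => (h6.mem g).trans ι.surjective.exists⟩
  choose φ hφ using fun s => ι.surjective.exists.1 ((h1.mem _).1 (h7.mem' s))
  have q : ∀ {a b}, k (ι a) = k (ι b) → a = b := fun e => ι.injective (h1.inj e)
  refine ⟨_, φ, ⟨h7, by simp [h4, F.cc_cc, cc_zero], fun s a κ l m H => ?_⟩, q (by simp [hφ, h3, h4, F.cc_cc, cc_zero]),
    fun a b => q (by rw [hφ, h7.add, map_add, h1.add, hφ, hφ]), fun a b e => h7.inj (by rw [← hφ, e, hφ])⟩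
  have := F.mc' (F.n0 _ (h7.mem' (φ s * a)).1) 0 3
  rw [← hφ] at H
  simp only [F.cc_cc, cc_zero, pow_zero, one_mul, Nat.reduceAdd, Nat.reduceMod, Nat.reduceMul] at this ⊢
  rw [h5 _ _ _ _ _ H, ← map_mul, this]

variable (C : C1 X ρ e x φ)
include C

theorem mu' (j i k : ℕ) (H : Mk X t κ (cc ρ j (x s)) l m) (a : K)
    (q : t % 16 = 2 * j % 16 ∧ i % 8 = (j + 3) % 8 ∧ k % 8 = (j + 1) % 8 := by omega) :
    m⁻¹ * cc ρ i (x a) * m = cc ρ k (x (φ s * a)) := by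
  obtain ⟨κ', l', m', H'⟩ := M.ex (C.ax.mem' s).1 (by simpa using H.ne)
  have := congrArg (cc ρ j) (C.mu _ a _ _ _ H')
  rwa [map_mul, map_mul, map_inv, F.cc_cc, F.cc_cc, cc_ap (g := m'), ← (M.uq H (H'.cj (F.S.pow M.eq j))).2.2,
    F.ce (j := i), F.ce (i := _ % 8) (j := k)] at this

theorem cmp (S : Sy X 1 0 g) (j i k : ℕ) (h0 : s ≠ 0) (e1 : g * cc ρ j (x s) * g⁻¹ = cc ρ j (x s'))
    (e2 : g * cc ρ i (x a) * g⁻¹ = cc ρ i (x a')) (q : i % 8 = (j + 3) % 8 ∧ k % 8 = (j + 1) % 8 := by omega) :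
    g * cc ρ k (x (φ s * a)) * g⁻¹ = cc ρ k (x (φ s' * a')) := by
  obtain ⟨κ, l, m, H⟩ := M.ex (F.up M (t := 2 * j) j (C.ax.mem' s).1) (C.ne h0 j)
  rw [← F.mu' M C j i k H, ← F.mu' M C j i k (e1 ▸ H.cj (t' := 2 * j) S), ← e2]; group

theorem mx (i j : ℕ) (a : K) : mi ρ n i (cc ρ j (x a)) = cc ρ ((i + 4 + 7 * j) % 8) (x a) := F.mc (F.n0 _ (C.ax.mem' a).1) i j

variable (E : VE X)
include E

theorem tor0 (h0 : s ≠ 0) : ∃ h, Sy X 1 0 h ∧ h * n = n * h⁻¹ ∧ (∀ j, j = 3 ∨ j = 5 → ∀ a, h * cc ρ j (x a) * h⁻¹ = cc ρ j (x (φ s * a))) ∧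
    (∀ j, j = 1 ∨ j = 7 → ∀ a, h * cc ρ j (x (φ s * a)) * h⁻¹ = cc ρ j (x a)) ∧
    (∀ j, j = 2 ∨ j = 6 → ∀ a, h * cc ρ j (x a) * h⁻¹ = cc ρ j (x a)) ∧
    ∀ a b, a ≠ 0 → h * cc ρ 0 (x (φ (φ s * a) * b)) * h⁻¹ = cc ρ 0 (x (φ a * b)) := by
  have h1 := C.ax.mem' s
  obtain ⟨κ, l, m, H⟩ := M.ex h1.1 (by simpa [cc_zero] using C.ne h0 0)
  have h2 := (M.invol H (M.exp2 E h1)).2
  have h3 : mi ρ n 4 m = m := by
    have := H.cj (t' := 0) (F.ms M 4)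
    rw [show _ * x s * _ = x s by simpa [cc_zero, mi_ap] using F.mx M C 4 0 s] at this
    exact (M.uq this H).2.2
  have e3 := fun a => C.mu s a _ _ _ H
  have e5 : ∀ a, m⁻¹ * cc ρ 5 (x a) * m = cc ρ 7 (x (φ s * a)) := fun a => by
    simpa only [map_mul, map_inv, h3, F.mx M C] using congrArg (mi ρ n 4) (e3 a)
  have k : ∀ g, n * m * g * (n * m)⁻¹ = mi ρ n 0 (m⁻¹ * g * m) := fun g => by rw [mi_ap]; nth_rw 1 [← h2]; nth_rw 4 [← h2]; group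
  have k' : ∀ g, m⁻¹ * (m⁻¹ * g * m) * m = g := fun g => by nth_rw 1 [h2]; nth_rw 3 [← h2]; group
  have S : Sy X 1 0 (n * m) := F.H0.s.mul H.s _ _
  have e2 : ∀ j, j = 2 ∨ j = 6 → ∀ a, n * m * cc ρ j (x a) * (n * m)⁻¹ = cc ρ j (x a) := fun j q a => by
    have := F.uV M (t := 2 * j) j (C.ax.mem' a)
    exact ((M.g2 F.H0 this.1 (V.cm this F.ve.1)).2.2.mul_left (M.g2 H this.1 (V.cm this h1.1)).2.2).mul_inv_cancel
  have e7 : ∀ j, j = 1 ∨ j = 7 → ∀ a, n * m * cc ρ j (x (φ s * a)) * (n * m)⁻¹ = cc ρ j (x a) := by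
    rintro _ (rfl | rfl) a
    exacts [by rw [k, ← e3, k', F.mx M C], by rw [k, ← e5, k', F.mx M C]]
  refine ⟨_, S, by rw [mul_inv_rev, h2, F.nn, mul_assoc], ?_, e7, e2, fun a b q => F.cmp M C S 7 2 0 (fun q' => ?_)
    (e7 7 (.inr rfl) a) (e2 2 (.inl rfl) b)⟩
  · rintro _ (rfl | rfl) a
    exacts [by rw [k, e3, F.mx M C], by rw [k, e5, F.mx M C]]
  · exact C.ne q 7 (by simpa [q', C.ax.zero] using (e7 7 (.inr rfl) a).symm)

omit C in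
theorem ex2 [Finite G] [Fintype K] (hK : Nat.card K = Nat.card (V X 0)) : ∃ (x : K → G) (σ : K →+* K), C1 X ρ e x σ ∧ Ti σ ∧
    ∀ w, w ≠ 0 → ∃ h, Sy X 1 0 h ∧ ∀ j a, h * cc ρ j (x a) * h⁻¹ = cc ρ j (x (ch σ w j * a)) := by
  obtain ⟨x, φ, C, h1, h2, h3⟩ := F.ex1 M E hK
  have h0 : φ 0 = 0 := by simpa using h2 0 0
  have h4 := Finite.injective_iff_surjective.1 h3
  have h5 : ∀ a b, φ (a * b) = φ a * φ b := fun a b => by
    obtain ⟨s, rfl⟩ := h4 a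
    by_cases q : s = 0
    · simp [q, h0]
    by_cases q' : b = 0
    · simp [q', h0]
    obtain ⟨h, -, -, -, -, -, e⟩ := F.tor0 M C E q
    simpa using C.inj (cj_inj (e b 1 q') (by simpa [h1] using e 1 (φ b) one_ne_zero))
  let σ : K →+* K := ⟨⟨⟨φ, h1⟩, h5⟩, h0, h2⟩
  have h6 : ∀ s, φ (φ s) = s * s := fun s => by
    by_cases q : s = 0
    · simp [q, h0]
    obtain ⟨h, S, -, e3, e1, -, e0⟩ := F.tor0 M C E q
    have := F.cmp M C S 0 3 1 (s := φ (φ s * 1) * 1) (by simp [h3.ne_iff' h0, q])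
      (e0 1 1 one_ne_zero) (e3 3 (.inl rfl) 1)
    exact h3 (by simpa [h5] using C.inj (cj_inj this (by simpa [h1] using e1 1 (.inl rfl) (φ s))))
  refine ⟨x, σ, C, ⟨inferInstance, fun a => C.ax.inj (by rw [C.ax.add, M.exp2 E (C.ax.mem' a), C.ax.zero]), h6⟩, fun w q => ?_⟩
  obtain ⟨s, rfl⟩ := h4 w
  obtain ⟨h, S, e, e3, e1, e2, e0⟩ := F.tor0 M C E (s := s) (by rintro rfl; exact q h0)
  have q' : φ (φ s) ≠ 0 := (map_ne_zero σ).2 q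
  have k0 : ∀ a, h * cc ρ 0 (x (φ (φ s) * a)) * h⁻¹ = cc ρ 0 (x a) := fun a => by simpa [h1] using e0 1 a one_ne_zero
  have k1 := fun j p a => (congrArg (fun a => h * cc ρ j (x a) * h⁻¹) (mul_inv_cancel_left₀ q a)).symm.trans (e1 j p _)
  refine ⟨h, S, fun j a => ?_⟩
  rw [F.ce (j := j % 8), F.ce (i := j) (j := j % 8), ch_eq (j := j % 8)]
  obtain p : j % 8 < 8 := by omega
  generalize j % 8 = j at p
  interval_cases j
  · exact (congrArg (fun a => h * cc ρ 0 (x a) * h⁻¹) (mul_inv_cancel_left₀ q' a)).symm.trans (k0 _)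
  · exact k1 1 (.inl rfl) a
  · exact (e2 2 (.inl rfl) a).trans (by simp [ch])
  · exact e3 3 (.inl rfl) a
  · rw [← F.n0 _ (C.ax.mem' _).1, ← F.n0 _ (C.ax.mem' _).1, ← cc_zero (ρ := ρ) (g := x a), ← k0,
      show ∀ g, h * (n * g * n⁻¹) * h⁻¹ = h * n * g * (h * n)⁻¹ from fun _ => by group, e, cc_zero]
    simp [mul_assoc]; rfl
  · exact e3 5 (.inr rfl) a
  · exact (e2 6 (.inr rfl) a).trans (by simp [ch])
  · exact k1 7 (.inr rfl) a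

theorem exz [Finite G] (H : ∀ w, w ≠ 0 → ∃ h, Sy X 1 0 h ∧ ∀ j a, h * cc ρ j (x a) * h⁻¹ = cc ρ j (x (ch σ w j * a))) :
    ∃ z : K → G, Ad z (X 1) ∧ z 1 = e' ∧ ∀ r a, (z r)⁻¹ * cc ρ 3 (x a) * z r = cc ρ 2 (x (r * a)) * cc ρ 3 (x a) := by
  have hy := F.uV M (t := 1 + 5) 3 (C.ax.mem' 1)
  have h0 := C.ne one_ne_zero 3
  have h4 := F.adc M (t := 1 + 3) C.ax 2
  choose z hz ez using fun r => M.osur E hy h0 (h4.mem' r)
  have az : Ad z (X 1) := ⟨fun a b => M.oinj E (hz _) (mul_mem (hz a) (hz b)) hy h0 (by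
    rw [ez, cj_mul (V.cm (h4.mem' a) (hz b)) (ez a) (ez b), h4.add]), fun a b q => h4.inj (by
      have := ez a; rwa [q, ez, mul_left_inj, eq_comm] at this), fun u => ⟨fun hu => by
    obtain ⟨w, h1, q, -⟩ := M.o5 E hu hy
    obtain ⟨r, rfl⟩ := (h4.mem w).1 h1
    exact ⟨r, M.oinj E (hz r) hu hy h0 (by rw [ez, q])⟩, fun ⟨r, q⟩ => q ▸ hz r⟩⟩
  refine ⟨z, az, ?_, fun r a => ?_⟩
  · obtain ⟨w, -, q, q'⟩ := M.o5 E F.H1.m hy
    exact M.oinj E (hz 1) F.H1.m hy h0 (by rw [ez, q, q' _ _ _ F.H1, ← F.mc' (F.n0 _ (C.ax.mem' 1).1) 1 3, pow_one])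
  by_cases q : a = 0
  · simp [q, C.ax.zero]
  have em : ∀ r, (z r)⁻¹ * cc ρ 6 (x 1) * z r = cc ρ 7 (x r) * cc ρ 6 (x 1) := fun r => by
    simpa only [map_mul, map_inv, F.mx M C, show mi ρ n 5 (z r) = z r by simpa [cc_zero] using F.mc (F.n1 _ (hz r)) 5 0] using
      congrArg (mi ρ n 5) (ez r)
  obtain ⟨h, S, tx⟩ := H a q
  obtain ⟨r', e1⟩ := (az.mem _).1 (S.up (t := 1) (hz (r * a)))
  have e2 := cj_cj h (em (r * a))
  have e3 := cj_cj h (ez (r * a))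
  simp only [← conj_mul, tx, ← e1, ch, Nat.reduceMod, mul_one, one_mul, em, mul_left_inj] at e2 e3
  rwa [C.inj e2, mul_comm r, inv_mul_cancel_left₀ q, mul_comm a] at e3

end Fr

/-- coordinates -/
structure C3 (X : ℕ → Subgroup G) (ρ e e' f : G) (σ : K →+* K) (x Y z : K → G) : Prop extends C1 X ρ e x σ where
  ti : Ti σ
  az : Ad z (X 1)
  z1 : z 1 = e'
  r16 : ∀ r a, (z r)⁻¹ * cc ρ 3 (x a) * z r = cc ρ 2 (x (r * a)) * cc ρ 3 (x a)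
  y0 : Y 0 = 1
  y1 : Y 1 = f
  hy : ∀ a, a ≠ 0 → ∃ l m, Mk X 8 (Y a) (cc ρ 4 (x a)) l m
  tor : ∀ w, w ≠ 0 → ∃ h, To ρ x Y z (ch σ w) h

theorem Fr.ex3 (F : Fr X ρ n e e' f) (M : H8 X) (E : VE X) [Finite G] [Fintype K] (hK : Nat.card K = Nat.card (V X 0)) :
    ∃ (σ : K →+* K) (x Y z : K → G), C3 X ρ e e' f σ x Y z := by
  classical
  obtain ⟨x, σ, C, T, H⟩ := F.ex2 M E hK
  obtain ⟨z, az, z1, r16⟩ := F.exz M C E H
  choose! Y l m hY using fun a (h : a ≠ 0) => M.ex (F.up M (t := 8) 4 (C.ax.mem' a).1) (C.ne h 4)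
  have hy : ∀ a, a ≠ 0 → Mk X 8 (if a = 0 then 1 else Y a) (cc ρ 4 (x a)) (l a) (m a) := fun a h => by rw [if_neg h]; exact hY a h
  refine ⟨σ, x, fun a => if a = 0 then 1 else Y a, z, C, T, az, z1, r16, if_pos rfl, ?_, fun a h => ⟨_, _, hy a h⟩, fun w q => ?_⟩
  · simpa [F.cc_cc, cc_zero] using (M.uq (hy 1 one_ne_zero) (F.k0 M 4 (κ := cc ρ 4 f) (l := f⁻¹) (by simpa [C.x1] using F.H0))).1
  obtain ⟨h, S, tx⟩ := H w q
  refine ⟨h, ch_ne q, tx, fun j a => ?_, fun j r => ?_⟩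
  · by_cases p : a = 0
    · simp [p]
    have k := fun a p => (hy a p).cj (t' := 8 + 2 * j) (F.S.pow M.eq j)
    simp only [← cc_ap, F.cc_cc, F.ce (i := (j + 4) % 8) (j := j + 4)] at k
    exact (M.uq (tx _ a ▸ (k a p).cj (t' := 8 + 2 * j) S) (k _ (mul_ne_zero (ch_ne q _) p))).1
  · have k := fun r a => congrArg (cc ρ j) (r16 r a)
    simp only [map_mul, map_inv, F.cc_cc, F.ce (i := (j + 3) % 8) (j := j + 3), F.ce (i := (j + 2) % 8) (j := j + 2)] at k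
    refine M.oinj E (s := 1 + 2 * j) (S.up (F.up M (t := 1 + 2 * j) j (az.mem' r))) (F.up M j (az.mem' _))
      (F.uV M (j + 3) (C.ax.mem' (ch σ w (j + 3) * 1))) (C.ne (by simp [ch_ne q]) _) ?_
    rw [k, ← tx, cj_cj h (k r 1), ← conj_mul, tx, tx]
    congr 3; field_simp [ch_ne q]

end CF.Oc
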