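import Cfsg.Agent.Mp.OF

/-! Moufang octagons: the base relations hold. -/

set_option autoImplicit false

namespace CF.Oc

open CF.Tb CF.Hx Subgroup
open scoped commutatorElement

variable {G : Type*} [Group G] [Finite G] {X : ℕ → Subgroup G} {K : Type*} [Field K] {σ : K →+* K} {i j k t : ℕ}
  {g h u v n m κ l ρ e e' f : G} {x Y z : K → G} {s s' a a' b w : K}

theorem H8.kc (M : H8 X) (E : VE X) {a1 e2 a3 f4 e4 a5 c f6 e6 a7 e8 : G} (h1 : a1 ∈ X 1) (h2 : e2 ∈ V X 2) (h3 : a3 ∈ X 3)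
    (h4 : f4 ∈ X 4) (k4 : e4 ∈ V X 4) (h5 : a5 ∈ X 5) (k5 : c ∈ X 5) (h6 : f6 ∈ X 6) (k6 : e6 ∈ V X 6) (h7 : a7 ∈ X 7)
    (hg : g ∈ V X 2) (R : a1⁻¹ * e8 * a1 = e2 * (a3 * f4⁻¹ * a5 * f6 * a7) * e8) (p1 : f4⁻¹ * a1 * f4 = e2 * a1)
    (p2 : f6 * a1 * f6⁻¹ = a1 * g * a3) (p3 : f4⁻¹ * a7 * f4 = e6 * a7) (p4 : a7⁻¹ * e2 * a7 = e4 * e2)
    (p5 : f6⁻¹ * f4⁻¹ * f6 = c * f4⁻¹) (q4 : f4 * f4 = e4) (q6 : f6 * f6 = e6) : a1⁻¹ * a7 * a1 = g * e2 * a3 * c * a7 := by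
  have cj : ∀ u a b : G, u⁻¹ * (a * b) * u = u⁻¹ * a * u * (u⁻¹ * b * u) := fun _ _ _ => by group
  have k1 : a1⁻¹ * (e2 * (a3 * f4⁻¹ * a5 * f6 * a7) * e8) * a1 = e8 := by
    rw [← R, show a1⁻¹ * (a1⁻¹ * e8 * a1) * a1 = (a1 * a1)⁻¹ * e8 * (a1 * a1) by group, (M.oc E h1 h1).2]; simp
  have k2 : a7 * (e2 * (a3 * f4⁻¹ * a5 * f6 * a7)) = e4 * e2 * (a3 * (e6 * f4⁻¹) * a5 * f6) := by
    have : a7⁻¹ * f4⁻¹ * a7 = e6 * f4⁻¹ := by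
      rw [mul_assoc, eq_mul_inv_of_mul_eq p3, mul_assoc e6, (V.cm k6 (inv_mem h7)).left_comm, inv_mul_cancel_left]
    rw [← p4, ← this, ← cj_eq (M.c15 E h3 h7).symm, ← cj_eq (M.c13 E h5 h7).symm, ← cj_eq (M.c1 h6 h7).symm, ← cj, ← cj, ← cj,
      ← cj, cj_eq (M.c15 E h3 h7).symm, cj_eq (M.c13 E h5 h7).symm, cj_eq (M.c1 h6 h7).symm,
      inv_eq_of_mul_eq_one_right (M.oc E h7 h7).2]; group
  have k3 : a1⁻¹ * f4⁻¹ * a1 = e2 * f4⁻¹ := by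
    rw [mul_assoc, eq_mul_inv_of_mul_eq p1, mul_assoc e2, (V.cm h2 (inv_mem h1)).left_comm, inv_mul_cancel_left]
  have k6' : a1⁻¹ * f6 * a1 = g * a3 * f6 := by rw [mul_assoc, mul_inv_eq_iff_eq_mul.1 p2]; group
  rw [cj, R, ← mul_assoc, mul_eq_right, cj, cj, cj, cj, cj, k3, k6', cj_eq (V.cm h2 h1), cj_eq (M.c13 E h1 h3),
    cj_eq (M.c15 E h1 h5)] at k1
  have i4 := inv_mem h4
  have o : ∀ {v}, v * v = 1 → ∀ r : G, v * (v * r) = r := fun h r => by rw [← mul_assoc, h, one_mul]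
  have k7 : e2 * (a3 * (e2 * f4⁻¹) * a5 * (g * a3 * f6) * (g * e2 * a3 * c * a7)) * (e2 * (a3 * f4⁻¹ * a5 * f6 * a7)) = 1 := by
    rw [← mul_assoc _ _ a7, ← mul_assoc _ _ a7, mul_assoc _ a7, k2]
    simp only [mul_assoc, (V.cm hg h2.1).left_comm, (V.cm hg h3).left_comm, (V.cm hg i4).left_comm, (V.cm hg h5).left_comm,
      (V.cm hg h6).left_comm, (V.cm h2 h3).left_comm, (V.cm h2 i4).left_comm, (V.cm h2 h5).left_comm, (V.cm h2 h6).left_comm,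
      (V.cm h2 k5).left_comm, (V.cm h2 k4.1).left_comm, o (M.exp2 E hg), o (M.exp2 E h2), o (M.oc E h3 h3).2,
      (V.cm k4 k5).left_comm, (V.cm k4 h3).left_comm, (M.c13 E h3 k5).symm.left_comm, (M.c13 E h3 h5).symm.left_comm,
      (M.c1 h3 i4).symm.left_comm, (M.c1 i4 h5).left_comm, (M.c1 h5 h6).symm.left_comm, (M.oc E k5 h5).1.left_comm,
      (V.cm k6 h5).symm.left_comm, (V.cm k4 h5).symm.left_comm, o (M.oc E h5 h5).2]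
    rw [show f4⁻¹ * f6 = f6 * (c * f4⁻¹) by rw [← p5]; group, (V.cm k6 k5).left_comm, (M.c1 k5 h6).left_comm, o (M.oc E k5 k5).2,
      (V.cm k4 h6).left_comm, (V.cm k6 h6).left_comm, ← mul_assoc f6, q6, o (M.exp2 E k6), ← q4]; group
  rwa [← k7, mul_left_inj, mul_right_inj, mul_right_inj] at k1

omit [Finite G] in
theorem Mk.inv' (H : Mk X 0 (cc ρ 4 u⁻¹) v (cc ρ 4 g) n) (h : n⁻¹ = n) : Mk X 0 (cc ρ 4 g⁻¹) v⁻¹ (cc ρ 4 u) n := by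
  simpa [h] using H.inv

namespace C3

variable (C : C3 X ρ e e' f σ x Y z) (F : Fr X ρ n e e' f) (M : H8 X)
include C F M

theorem ym (a : K) : Y a ∈ X 0 := by
  by_cases q : a = 0
  · rw [q, C.y0]; exact one_mem _
  · obtain ⟨l, m, H⟩ := C.hy a q; exact M.mv H.k

theorem hx (j : ℕ) (a : K) (q : t % 16 = (j * 2 + 1 * 0) % 16 := by omega) : cc ρ j (x a) ∈ V X t := F.uV M j (C.ax.mem' a) q

theorem hY (j : ℕ) (a : K) (q : t % 16 = (j * 2 + 1 * 0) % 16 := by omega) : cc ρ j (Y a) ∈ X t := F.up M j (C.ym F M a) q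

theorem hz (j : ℕ) (a : K) (q : t % 16 = (j * 2 + 1 * 1) % 16 := by omega) : cc ρ j (z a) ∈ X t := F.up M j (C.az.mem' a) q

theorem mir (i : ℕ) : (∀ j a, mi ρ n i (cc ρ j (x a)) = cc ρ ((i + 4 + 7 * j) % 8) (x a)) ∧
    (∀ j a, mi ρ n i (cc ρ j (Y a)) = cc ρ ((i + 4 + 7 * j) % 8) (Y a)) ∧
    (∀ j a, mi ρ n i (cc ρ j (z a)) = cc ρ ((i + 3 + 7 * j) % 8) (z a)) :=
  ⟨F.mx M C.toC1 i, fun j a => F.mc (F.n0 _ (C.ym F M a)) i j, fun j a => F.mc (F.n1 _ (C.az.mem' a)) i j⟩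

omit F M in
theorem r16' (r a : K) : (cc ρ 0 (z r))⁻¹ * cc ρ 3 (x a) * cc ρ 0 (z r) = cc ρ 2 (x (r * a)) * cc ρ 3 (x a) := by
  rw [cc_zero, C.r16]

variable (E : VE X)
include E

theorem r14a : ∃ β, β ≠ 0 ∧ (cc ρ 2 (Y 1))⁻¹ * cc ρ 0 (z β) * cc ρ 2 (Y 1) = cc ρ 1 (x β) * cc ρ 0 (z β) := by
  have h0 := C.hx F M (t := 0) 0 1
  have h6 := C.hx F M (t := 0 + 6) 3 1
  have H : Mk X 0 (cc ρ 4 (Y 1)) (cc ρ 0 (x 1)) (cc ρ 4 (Y 1)⁻¹) n := by simpa [cc_zero, C.x1, C.y1] using F.H0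
  obtain ⟨w, h1, B, h2, w', h3, e1, e2, e3⟩ := M.v6 h0 h6
  have k1 : n⁻¹ * cc ρ 3 (x 1) * n = cc ρ 1 (x 1) := by simpa using F.mc' (F.n0 _ (C.ax.mem' 1).1) 0 3
  have k2 : n * cc ρ 0 (x 1) * n⁻¹ = cc ρ 4 (x 1) := by simpa [mi_ap] using (C.mir F M 0).1 0 1
  rw [e2 _ _ _ H, k1, e3 _ _ _ (by simpa only [F.cc_cc] using F.k0 M 3 H), ← mi_ap, (C.mir F M 6).1] at e1
  obtain ⟨β, rfl⟩ := ((C.az.conj (F.S.2 1 3 rfl)).mem B).1 h2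
  rw [show ρ * z β * ρ⁻¹ = cc ρ 1 (z β) by simp [cc_ap]] at e1
  have q : β ≠ 0 := fun q => M.bz E H h0 h6 (C.ne one_ne_zero 3) (C.hx F M 2 1) (C.hx F M 2 1) (by simpa [q, C.az.zero, k1] using e1) (by
    rw [k1, k2]; simpa [q, C.az.zero, F.cc_cc] using congrArg (cc ρ 1) e1)
  have e4 := congrArg (mi ρ n 0) ((H.g4 (V.cm h6 H.k)).symm.trans e1)
  have e5 := congrArg (mi ρ n 7) (C.r16' β 1)
  simp only [k1, map_mul, map_inv, inv_inv, C.mir F M, Nat.reduceAdd, Nat.reduceMul, Nat.reduceMod, mul_one] at e1 e4 e5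
  have h2 := C.hx F M (t := 0 + 2) 1
  have h4 := C.hx F M (t := 0 + 4) 2 1
  have h5 := C.hz F M (t := 0 + 5) 2 β
  have e6 := M.c25a E h0 (h2 1) h4 (C.hz F M 1 β) e1 (C.hY F M 0 1) (h2 1) (mY h4.1) h5 (by
    rw [e4, (((V.cm (h2 1) h6.1).mul_left (V.cm (h2 1) h5)).mul_left (V.cm (h2 1) h4.1)).eq,
      ((V.cm h4 h6.1).mul_left (V.cm h4 h5)).eq, ← (V.cm h6 h5).eq]; group) (h2 β)
    (cj_sw (M.exp2 E h0) (M.oc E h5 h5).2 (V.cm (h2 β) h0.1) e5)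
  exact ⟨β, q, by simpa only [map_mul, map_inv, C.mir F M] using congrArg (mi ρ n 6) e6⟩

theorem r14 (r b : K) : (cc ρ 2 (Y (io σ b)))⁻¹ * cc ρ 0 (z r) * cc ρ 2 (Y (io σ b)) = cc ρ 1 (x (r * b)) * cc ρ 0 (z r) := by
  have k : ∀ r, (cc ρ 2 (Y 1))⁻¹ * cc ρ 0 (z r) * cc ρ 2 (Y 1) = cc ρ 1 (x r) * cc ρ 0 (z r) := fun r => by
    by_cases q : r = 0
    · simp [q, C.az.zero, C.ax.zero]
    obtain ⟨β, p, e⟩ := C.r14a F M E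
    obtain ⟨h, T⟩ := C.tor _ (div_ne_zero p q)
    have := cj_cj h e
    simp only [← conj_mul, T.x, T.y, T.z, ch, Nat.reduceMod, Nat.reduceAdd, mul_one] at this
    convert this using 4 <;> field_simp
  by_cases q : b = 0
  · simp [q, C.y0, C.ax.zero, io]
  obtain ⟨h1, -, h2⟩ := C.ti.d1 q
  obtain ⟨h, T⟩ := C.tor _ h2
  have := cj_cj ((ρ ^ 5)⁻¹ * h * ρ ^ 5) (k (r * b))
  simp only [← conj_mul, (T.rot 5).x, (T.rot 5).y, (T.rot 5).z, ch, Nat.reduceMod, Nat.reduceAdd, mul_one, one_mul] at this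
  rwa [inv_div_inv, ← inv_div, h1, mul_comm r, inv_mul_cancel_left₀ q, mul_comm b] at this

theorem r36 (r b : K) : cc ρ 3 (Y (io σ b)) * cc ρ 1 (z r) * (cc ρ 3 (Y (io σ b)))⁻¹ = cc ρ 1 (z r) * cc ρ 2 (x (r * b)) := by
  have := congrArg (cc ρ 1) (C.r14 F M E r b)
  have h4 := C.hx F M (t := 4) 2 (r * b)
  simp only [map_mul, map_inv, F.cc_cc, Nat.reduceAdd, Nat.reduceMod] at this
  rw [mul_assoc, inv_mul_eq_iff_eq_mul, ← mul_assoc, (V.cm h4 (C.hY F M (t := 6) 3 _)).eq] at this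
  rw [mul_inv_eq_iff_eq_mul, (V.cm h4 (C.hz F M (t := 3) 1 r)).eq, mul_assoc, this, ← mul_assoc, ← mul_assoc, M.exp2 E h4, one_mul]

theorem r61 (r a : K) : cc ρ 3 (x a) * cc ρ 0 (z r) * (cc ρ 3 (x a))⁻¹ = cc ρ 0 (z r) * cc ρ 2 (x (r * a)) := by
  rw [mul_inv_eq_iff_eq_mul, mul_assoc, ← C.r16', ← mul_assoc, ← mul_assoc, mul_inv_cancel, one_mul]

theorem io1 : io σ (1 : K) = 1 := by simp [io]

theorem bas : cc ρ 3 (Y 1) * cc ρ 0 (z 1) * (cc ρ 3 (Y 1))⁻¹ = cc ρ 0 (z 1) * cc ρ 1 (x 1) * cc ρ 1 (z 1) ∧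
    (cc ρ 3 (Y 1))⁻¹ * (cc ρ 2 (Y 1))⁻¹ * cc ρ 3 (Y 1) = cc ρ 2 (z 1) * (cc ρ 2 (Y 1))⁻¹ ∧
    (cc ρ 0 (z 1))⁻¹ * cc ρ 3 (z 1) * cc ρ 0 (z 1) = cc ρ 1 (z 1) * cc ρ 2 (z 1) * cc ρ 3 (z 1) := by
  have H : Mk X 0 (cc ρ 4 (Y 1)) (x 1) (cc ρ 4 (Y 1)⁻¹) n := by simpa [C.x1, C.y1] using F.H0
  have H' : Mk X 0 (cc ρ 4 (Y 1)⁻¹) (Y 1) (cc ρ 4 (x 1)) n := by simpa [C.x1, C.y1] using F.Hf M
  have h1 := C.hz F M (t := 1) 0 1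
  have h3 := C.hz F M (t := 3) 1 1
  have h4 := C.hY F M (t := 4) 2 1
  have h5 := C.hz F M (t := 5) 2 1
  have h6 := C.hY F M (t := 6) 3 1
  have k2 := C.hx F M (t := 2) 1 1
  have k4 := C.hx F M (t := 4) 2 1
  have k6 := C.hx F M (t := 6) 3 1
  obtain ⟨g, hg, e1⟩ := M.k16 E (F.k0 M (t := 14) 7 H) (C.hx F M 7 1) (M.mv h1)
  replace hg := M.mV (b := 2) hg
  rw [F.cc_cc, F.mc' (F.n1 _ (C.az.mem' 1))] at e1
  have e2 := C.r36 F M E 1 1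
  have e3 := C.r61 F M E 1 1
  have e4 := C.r14 F M E 1 1
  have e5 := congrArg (mi ρ n 0) e4
  have e6 := congrArg (mi ρ n 0) (C.r16' 1 1)
  simp only [C.io1 F M E, mul_one, map_mul, map_inv, C.mir F M, Nat.reduceAdd, Nat.reduceMul, Nat.reduceMod] at e1 e2 e3 e4 e5 e6
  have q6 : cc ρ 3 (Y 1) * cc ρ 3 (Y 1) = cc ρ 3 (x 1) := by
    refine (inv_mul_eq_one.1 ((M.nc h1 (mul_mem (inv_mem k6.1) (mul_mem h6 h6)) (mul_inv_eq_iff_eq_mul.1 ?_).symm).resolve_left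
      (by simpa [C.z1] using F.H1.ne))).symm
    rw [show ∀ a b c : G, a⁻¹ * (b * b) * c * (a⁻¹ * (b * b))⁻¹ = a⁻¹ * (b * (b * c * b⁻¹) * b⁻¹) * a from fun _ _ _ => by group,
      e1, ← conj_mul, ← conj_mul, e1, e2, (V.cm hg h6).mul_inv_cancel, (V.cm hg h3).right_comm, mul_assoc _ g g, M.exp2 E hg, mul_one,
      mul_assoc (cc ρ 0 _), ← mul_assoc (cc ρ 1 _), (M.oc E h3 h3).2, one_mul, ← e3]; group
  have q4 : cc ρ 2 (Y 1) * cc ρ 2 (Y 1) = cc ρ 2 (x 1) := by simpa [F.cc_cc] using congrArg (cc ρ 7) q6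
  have k5 := Yy_one (M.cm h4 (inv_mem h6))
  have e7 : (cc ρ 3 (Y 1))⁻¹ * (cc ρ 2 (Y 1))⁻¹ * cc ρ 3 (Y 1) = ⁅cc ρ 2 (Y 1), (cc ρ 3 (Y 1))⁻¹⁆ * (cc ρ 2 (Y 1))⁻¹ := by
    rw [← (M.c1 (inv_mem h4) k5).eq]; group
  generalize ⁅cc ρ 2 (Y 1), (cc ρ 3 (Y 1))⁻¹⁆ = c at k5 e7
  have h7 := C.hz F M (t := 7) 3 1
  have e8 := M.kc E h1 k2 h3 h4 k4 h5 k5 h6 k6 h7 hg (by simpa [cc_zero, C.z1] using F.base M H (H'.inv' F.nn) H') e4 e1 e5 e6 e7 q4 q6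
  have e9 := congrArg (mi ρ n 0) e8
  have p6 := (F.ms M 0).V (t := 6) hg
  have p3 := (F.ms M 0).up (t := 3) k5
  simp only [map_mul, map_inv, C.mir F M, Nat.reduceAdd, Nat.reduceMul, Nat.reduceMod, ← mi_ap] at e9 p6 p3
  have e10 : g * cc ρ 1 (x 1) * cc ρ 1 (z 1) * c = 1 * mi ρ n 0 c * (cc ρ 2 (z 1) * (mi ρ n 0 g * cc ρ 3 (x 1))) := by
    have i := fun {u v : G} (h : u * v = 1) => (inv_eq_of_mul_eq_one_right h).symm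
    rw [i (M.oc E p3 p3).2, i (M.oc E h5 h5).2, i (M.exp2 E (mul_mem p6 k6)), ← mul_inv_rev, one_mul, ← mul_inv_rev,
      eq_mul_inv_iff_mul_eq.2 e8.symm, eq_mul_inv_iff_mul_eq.2 e9.symm]
    simp only [mul_inv_rev, ← i (M.oc E h1 h1).2, ← i (M.oc E h7 h7).2, mul_assoc]
  obtain ⟨a1, a2, -⟩ := M.uq3 (t := 2) (mul_mem hg.1 k2.1) h3 (mY k5) (one_mem _) p3 (mul_mem (mY h5) (mY (mul_mem p6.1 k6.1))) e10
  obtain rfl : c = cc ρ 2 (z 1) := (mi ρ n 0).injective (by rw [← a2, (C.mir F M 0).2.2])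
  exact ⟨by rwa [eq_inv_of_mul_eq_one_left a1, inv_eq_of_mul_eq_one_right (M.exp2 E k2)] at e1, e7, by rw [e8, a1, one_mul]⟩

theorem r16y (r b : K) : cc ρ 3 (Y (io σ b)) * cc ρ 0 (z r) * (cc ρ 3 (Y (io σ b)))⁻¹ =
    cc ρ 0 (z r) * cc ρ 1 (x (b * σ r)) * cc ρ 1 (z (r * σ b)) := by
  have k : ∀ r, cc ρ 3 (Y 1) * cc ρ 0 (z r) * (cc ρ 3 (Y 1))⁻¹ = cc ρ 0 (z r) * cc ρ 1 (x (σ r)) * cc ρ 1 (z r) := fun r => by
    by_cases q : r = 0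
    · simp [q, C.az.zero, C.ax.zero]
    obtain ⟨h, T⟩ := C.tor _ (inv_ne_zero q)
    have := congrArg (fun g => (ρ ^ 7)⁻¹ * h * ρ ^ 7 * g * ((ρ ^ 7)⁻¹ * h * ρ ^ 7)⁻¹) (C.bas F M E).1
    simpa only [← conj_mul, ← conj_inv, (T.rot 7).x, (T.rot 7).y, (T.rot 7).z, ch, Nat.reduceMod, Nat.reduceAdd, mul_one, div_one,
      one_div, inv_inv, map_inv₀] using this
  by_cases q : b = 0
  · simp [q, C.y0, C.ax.zero, C.az.zero, io]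
  obtain ⟨h1, h3, h2⟩ := C.ti.d1 q
  obtain ⟨h, T⟩ := C.tor _ h2
  have := congrArg (fun g => (ρ ^ 4)⁻¹ * h * ρ ^ 4 * g * ((ρ ^ 4)⁻¹ * h * ρ ^ 4)⁻¹) (k (r / io σ b))
  simp only [← conj_mul, ← conj_inv, (T.rot 4).x, (T.rot 4).y, (T.rot 4).z, ch, Nat.reduceMod, Nat.reduceAdd, mul_one] at this
  generalize io σ b = w at *
  rwa [show 1 / w⁻¹ * (r / w) = r by field_simp, show w * σ (r / w) = w / σ w * σ r by rw [map_div₀]; ring, h1,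
    show w⁻¹ / (σ w)⁻¹ * (r / w) = r * (σ w / w ^ 2) by field_simp, h3] at this

theorem law (a b : K) : Y (io σ a) * Y (io σ b) = x (a * σ b) * Y (io σ (a + b)) := by
  have h1 := C.hz F M (t := 1) 0 1
  have h6 := C.hY F M (t := 6) 3
  have k6 := C.hx F M (t := 6) 3 (σ b * a)
  rw [mul_comm a]
  have k2 := C.hx F M (t := 2) 1
  have h3 := C.hz F M (t := 3) 1
  refine (cc ρ 3).injective (inv_mul_eq_one.1 ((M.nc h1 (mul_mem (inv_mem (map_mul (cc ρ 3) _ _ ▸ mul_mem k6.1 (h6 _)))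
    (map_mul (cc ρ 3) _ _ ▸ mul_mem (h6 _) (h6 _))) (mul_inv_eq_iff_eq_mul.1 ?_).symm).resolve_left
      (by simpa [C.z1] using F.H1.ne))).symm
  rw [show ∀ a b c : G, a⁻¹ * b * c * (a⁻¹ * b)⁻¹ = a⁻¹ * (b * c * b⁻¹) * a from fun _ _ _ => by group, mul_assoc,
    inv_mul_eq_iff_eq_mul, ← eq_mul_inv_iff_mul_eq, map_mul, map_mul,
    show ∀ a b c : G, a * b * c * (a * b)⁻¹ = a * (b * c * b⁻¹) * a⁻¹ from fun _ _ _ => by group,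
    show ∀ a b c : G, a * b * c * (a * b)⁻¹ = a * (b * c * b⁻¹) * a⁻¹ from fun _ _ _ => by group]
  simp only [C.r16y F M E, ← conj_mul, C.r36 F M E, C.r61 F M E, (V.cm (k2 _) (h6 _)).mul_inv_cancel, map_one, mul_one, one_mul,
    (V.cm k6 (k2 _).1).symm.mul_inv_cancel, (V.cm k6 (h3 _)).symm.mul_inv_cancel, map_add, C.ax.add, C.az.add, map_mul]
  simp only [mul_assoc, (V.cm (k2 b) (h3 _)).left_comm, (V.cm (C.hx F M (t := 4) 2 _) (k2 _).1).symm.left_comm,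
    (V.cm (C.hx F M (t := 4) 2 _) (h3 _)).symm.left_comm, (V.cm (C.hx F M (t := 4) 2 _) (h3 _)).symm.eq]

theorem nf (hg : g ∈ X 0) : ∃ a b, x a * Y b = g := by
  have h1 := C.hz F M (t := 1) 0 1
  obtain ⟨⟨w, h2, e1⟩, -⟩ := M.c14 E (F.up M 2 hg) h1
  obtain ⟨b, rfl⟩ := ((F.adc M C.ax 1).mem w).1 h2
  have h4 := C.hY F M (t := 1 + 3) 2 (io σ b)
  obtain ⟨a, e2⟩ := ((F.adc M C.ax 2).mem _).1 ((M.c14 E (mul_mem (F.up M 2 hg) (inv_mem h4)) h1).2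
    (by simpa [C.z1] using F.H1.ne) (of_cj (by
      rw [show ∀ a b c : G, (a * b⁻¹)⁻¹ * c * (a * b⁻¹) = b * (a⁻¹ * c * a) * b⁻¹ from fun _ _ _ => by group, e1,
        ← one_mul b, ← C.r14 F M E, one_mul]; group)))
  exact ⟨a, _, (cc ρ 2).injective (by rw [map_mul, e2, inv_mul_cancel_right])⟩

theorem inj0 (h : x a * Y (io σ b) = 1) : a = 0 ∧ b = 0 := by
  have h1 := C.hz F M (t := 1) 0 1
  have e1 := C.r14 F M E 1 b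
  rw [eq_inv_of_mul_eq_one_right h, map_inv, inv_inv, (V.cm (C.hx F M (t := 4) 2 a) h1).symm.mul_inv_cancel, one_mul, eq_comm,
    mul_eq_right] at e1
  obtain rfl : b = 0 := by_contra fun q => C.ne q 1 e1
  exact ⟨C.ax.inj (by simpa [io, C.y0, C.ax.zero] using h), rfl⟩

omit E in
theorem gm (t : ℕ) (a b : K) : gn ρ x Y z t a b ∈ X t := by
  unfold gn; split
  exacts [F.up M _ (mul_mem (C.ax.mem' a).1 (C.ym F M b)), C.hz F M _ a]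

theorem or : OR σ ρ n x Y z := by
  have H : Mk X 0 (cc ρ 4 (Y 1)) (x 1) (cc ρ 4 (Y 1)⁻¹) n := by simpa [C.x1, C.y1] using F.H0
  have H' : Mk X 0 (cc ρ 4 (Y 1)⁻¹) (Y 1) (cc ρ 4 (x 1)) n := by simpa [C.x1, C.y1] using F.Hf M
  obtain ⟨e1, e2, e3⟩ := C.bas F M E
  have e4 := C.r14 F M E 1 1
  have e5 := C.r16 1 1
  have h1 := C.az.mem' 1
  have i := inv_eq_of_mul_eq_one_right (M.oc E h1 h1).2
  rw [C.io1 F M E, mul_one, cc_zero] at *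
  refine ⟨F.toDh, C.ax.add, C.az.add, C.y0, C.law F M E, fun a => F.n0 _ (C.ax.mem' a).1, fun a => F.n0 _ (C.ym F M a),
    fun a => F.n1 _ (C.az.mem' a), C.tor, fun s t q a b c d => ?_, fun j t _ _ a c d => (V.cm (C.hx F M (t := 2 * j) j a) (C.gm F M t c d)).symm,
    ?_, ?_, ?_, ?_, ?_, ?_⟩
  · have h2 := C.gm F M t c d
    by_cases p : t = s + 4 ∧ s % 2 = 0
    · rw [gn, if_pos p.2, map_mul]
      refine (V.cm (C.hx F M (t := s) _ a) h2).symm.mul_left ?_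
      by_cases r : b = 0
      · simp [r, C.y0]
      obtain ⟨l, m, H⟩ := C.hy b r
      exact (M.g2 (H.cj (t' := s + 8) (F.S.pow M.eq (s / 2))) h2 (V.cm (F.uV M (t := s + 8) _ (C.hx F M (t := 8) 4 b)) h2).symm).1
    have h1 := C.gm F M s a b
    rcases q with q | q | q
    exacts [M.c1 h1 h2, M.c15 E h1 h2, M.c13 E h1 h2]
  · rw [commutatorElement_def, inv_mul_eq_iff_eq_mul.1 ((mul_assoc _ _ _).symm.trans e4), ← mul_assoc, mul_inv_cancel_right,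
      (V.cm (C.hx F M (t := 2) 1 1) (C.hY F M (t := 4) 2 1)).mul_inv_cancel]
  · rw [commutatorElement_def, mul_inv_eq_iff_eq_mul, ← e5, i]
  · rw [commutatorElement_def, mul_assoc, mul_assoc, i, ← mul_assoc (cc ρ 3 _), e1, mul_assoc, ← mul_assoc, (M.oc E h1 h1).2, one_mul]
  · have h5 := C.hz F M (t := 5) 2 1
    rw [commutatorElement_def]; nth_rw 1 [← cj_eq (M.c1 h5 (C.hY F M (t := 6) 3 1))]
    rw [show ∀ a b c : G, a * (b⁻¹ * c * b) * a⁻¹ * c⁻¹ = a * b⁻¹ * (c * (b * a⁻¹) * c⁻¹) from fun _ _ _ => by group, ← e2,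
      inv_eq_of_mul_eq_one_right (M.oc E h5 h5).2, (M.c1 (C.hY F M (t := 4) 2 1) h5).eq]; group
  · rw [commutatorElement_def, mul_inv_eq_iff_eq_mul, ← e3, i]
  · rintro _ _ _ (⟨rfl, rfl, rfl⟩ | ⟨rfl, rfl, rfl⟩ | ⟨rfl, rfl, rfl⟩) <;> rw [C.z1]
    exacts [F.base M H (H'.inv' F.nn) H', F.base M H' H (H'.inv' F.nn), F.base M (H'.inv' F.nn) H' H]

end C3

end CF.Oc
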