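import Cfsg.Agent.Mp.OG

/-! Uniqueness of finite Moufang octagons. -/

set_option autoImplicit false

namespace CF.Oc

open CF.Tb CF.Hx Subgroup
open scoped commutatorElement

variable {G : Type*} [Group G] [Finite G] {X : ℕ → Subgroup G} {K : Type*} [Field K] {σ σ' : K →+* K} {t : ℕ}
  {g n ρ e e' f : G} {x Y z : K → G} {a a' b b' : K}

theorem Ti.card [Fintype K] (T : Ti σ) : ∃ m, Fintype.card K = 2 ^ (2 * m + 1) ∧ ∀ a, σ a = a ^ 2 ^ (m + 1) := by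
  haveI : CharP K 2 := CharTwo.of_one_ne_zero_of_two_eq_zero one_ne_zero (by rw [← T.two 1]; norm_num)
  let _ := ZMod.algebra K 2
  obtain ⟨N, -, hN⟩ := FiniteField.card K 2
  obtain ⟨j, hj⟩ := FiniteField.exists_forall_apply_eq_pow (ZMod 2) 2 K (AlgEquiv.ofRingEquiv
    (f := RingEquiv.ofBijective σ ⟨σ.injective, T.ss⟩) fun x => RingHom.congr_fun (RingHom.ext_zmod (σ.comp (algebraMap _ _)) _) x)
  have h1 : ∀ k a, σ^[k] a = a ^ (2 ^ k) ^ j := fun k a => by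
    induction k with
    | zero => simp
    | succ k ih => rw [Function.iterate_succ_apply', ih, show ∀ a, σ a = _ from hj, Nat.card_zmod, ← pow_mul, ← mul_pow, pow_succ]
  have h2 : ∀ k a, σ^[2 * k] a = a ^ 2 ^ k := fun k a => by
    induction k with
    | zero => simp
    | succ k ih => rw [mul_add, add_comm, Function.iterate_add_apply, ih, pow_succ, pow_mul, pow_two]; exact T.sq _
  have h3 : ∀ a, σ^[N] a = a := fun a => by rw [h1, ← hN, FiniteField.pow_card_pow]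
  obtain ⟨m, e | e⟩ := Nat.even_or_odd' N
  · have := N.pos
    have h4 := Nat.one_lt_two_pow (n := m) (by omega)
    have := Nat.le_of_dvd (by omega) ((FiniteField.forall_pow_eq_one_iff K (2 ^ m - 1)).1 fun u => Units.ext (by
      rw [← mul_left_inj' u.ne_zero, Units.val_pow_eq_pow_val, ← pow_succ, Nat.sub_add_cancel h4.le, ← h2, ← e, h3]; simp))
    rw [hN, e, two_mul, pow_add] at this
    exact absurd (Nat.lt_mul_self_iff.2 h4) (by omega)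
  · exact ⟨m, e ▸ hN, fun a => by rw [← h2, show 2 * (m + 1) = N + 1 by omega, Function.iterate_succ_apply', h3]⟩

theorem Ti.uq [Fintype K] (T : Ti σ) (T' : Ti σ') : σ = σ' := by
  obtain ⟨m, h1, h2⟩ := T.card
  obtain ⟨m', h3, h4⟩ := T'.card
  obtain rfl : m = m' := by have := Nat.pow_right_injective le_rfl (h1.symm.trans h3); omega
  exact RingHom.ext fun a => (h2 a).trans (h4 a).symm

namespace C3

variable (C : C3 X ρ e e' f σ x Y z) (F : Fr X ρ n e e' f) (M : H8 X) (E : VE X)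
include C F M E

theorem inj2 (h : x a * Y (io σ b) = x a' * Y (io σ b')) : a = a' ∧ b = b' := by
  have k : ∀ a b, (cc ρ 2 (x a * Y (io σ b)))⁻¹ * cc ρ 0 (z 1) * cc ρ 2 (x a * Y (io σ b)) = cc ρ 1 (x (1 * b)) * cc ρ 0 (z 1) :=
    fun a b => by
      rw [← C.r14 F M E, map_mul]; nth_rw 2 [← cj_eq (V.cm (C.hx F M (t := 4) 2 a) (C.hz F M (t := 1) 0 1)).symm]; group
  have := k a b
  rw [h, k, mul_left_inj] at this
  obtain rfl : b = b' := by simpa using (C.inj this).symm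
  exact ⟨C.ax.inj (mul_right_cancel h), rfl⟩

theorem sur (hg : g ∈ X t) : ∃ a b, gn ρ x Y z t a b = g := by
  have := (F.S.pow M.eq (t / 2)).dn (s := t % 2) hg
  unfold gn
  by_cases q : t % 2 = 0
  · obtain ⟨a, b, e⟩ := C.nf F M E (q ▸ this)
    exact ⟨a, b, by rw [if_pos q, e, cc_ap]; group⟩
  · obtain ⟨a, e⟩ := (C.az.mem _).1 ((by omega : t % 2 = 1) ▸ this)
    exact ⟨a, 0, by rw [if_neg q, e, cc_ap]; group⟩

theorem one (t : ℕ) (a b : K) : gn ρ x Y z t a (io σ b) = 1 ↔ a = 0 ∧ (t % 2 = 0 → b = 0) := by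
  rw [gn, map_eq_one_iff _ (cc ρ _).injective]
  split
  · exact ⟨fun h => (C.inj0 F M E h).imp_right fun h _ => h, fun h => by simp [h.1, h.2 ‹_›, io, C.ax.zero, C.y0]⟩
  · rw [← C.az.zero, C.az.inj.eq_iff]; tauto

theorem card : Nat.card (X 0) = Nat.card K ^ 2 := by
  rw [sq, ← Nat.card_prod]
  refine (Nat.card_eq_of_bijective (fun p : K × K => (⟨_, mul_mem (C.ax.mem' p.1).1 (C.ym F M (io σ p.2))⟩ : X 0))
    ⟨fun p q h => Prod.ext_iff.2 (C.inj2 F M E (congrArg Subtype.val h)), fun g => ?_⟩).symm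
  obtain ⟨a, b, e⟩ := C.nf F M E g.2
  obtain ⟨b, rfl⟩ := C.ti.ios b
  exact ⟨(a, b), Subtype.ext e⟩

end C3

theorem H8.exC (M : H8 X) (E : VE X) : (∃ (K : Type) (_ : Field K) (_ : Fintype K), Nat.card K = Nat.card (V X 0)) ∧
    ∀ (K : Type) [Field K] [Fintype K], Nat.card K = Nat.card (V X 0) →
      ∃ ρ n e e' f, ∃ (σ : K →+* K) (x Y z : K → G), Fr X ρ n e e' f ∧ C3 X ρ e e' f σ x Y z := by
  obtain ⟨ρ, n, e, e', f, F⟩ := M.exFr E
  obtain ⟨K, _, _, k, -, h, -⟩ := M.exK E F.H0 F.ve (F.uV M 3 F.ve) (by simpa using F.H0.ne)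
  exact ⟨⟨K, ‹_›, ‹_›, h.card.symm⟩, fun K _ _ h => let ⟨σ, x, Y, z, C⟩ := F.ex3 M E h; ⟨ρ, n, e, e', f, σ, x, Y, z, F, C⟩⟩

theorem oct_card (M : MP 8 X) (E : VE X) :
    ∃ m, Nat.card (X 1) = 2 ^ (2 * m + 1) ∧ Nat.card (X 0) = Nat.card (X 1) ^ 2 := by
  obtain ⟨⟨K, _, _, h⟩, H⟩ := H8.exC M E
  obtain ⟨ρ, n, e, e', f, σ, x, Y, z, F, C⟩ := H K h
  obtain ⟨m, h1, -⟩ := C.ti.card
  exact ⟨m, by rw [C.az.card, Nat.card_eq_fintype_card, h1], by rw [C.card F M E, C.az.card]⟩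

omit [Finite G] in
theorem H8.card2 (M : H8 X) : Nat.card (X 2) = Nat.card (X 0) := by
  obtain ⟨u, h3, h4⟩ := M.ne 5
  obtain ⟨κ, l, n, H⟩ := M.ex h3 h4
  exact Nat.card_congr ⟨fun v => ⟨_, H.s.up v.2⟩, fun v => ⟨_, H.s.dn v.2⟩, fun v => by simp [mul_assoc],
    fun v => by simp [mul_assoc]⟩

theorem oct_card' (M : MP 8 X) : ∃ m, VE X ∧ Nat.card (X 0) = (2 ^ (2 * m + 1)) ^ 2 ∧ Nat.card (X 1) = 2 ^ (2 * m + 1) ∨
    VE (fun t => X (t + 1)) ∧ Nat.card (X 0) = 2 ^ (2 * m + 1) ∧ Nat.card (X 1) = (2 ^ (2 * m + 1)) ^ 2 := by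
  rcases H8.octVE M with E | E
  · obtain ⟨m, h1, h2⟩ := oct_card M E
    exact ⟨m, .inl ⟨E, h1 ▸ h2, h1⟩⟩
  · obtain ⟨m, h1, h2⟩ := oct_card (H8.shift M 1) E
    exact ⟨m, .inr ⟨E, (H8.card2 M).symm.trans h1, h1 ▸ h2⟩⟩

variable {G' : Type*} [Group G'] [Finite G'] {X' : ℕ → Subgroup G'}

theorem oct_gr0 (M : MP 8 X) (E : VE X) (M' : MP 8 X') (E' : VE X') (h : Nat.card (X 1) = Nat.card (X' 1)) :
    ∃ D : ℕ → Subgroup (G × G'), (∀ t, Gr (D t) (X t) (X' t)) ∧ ∀ a b, a < b → b < a + 8 → Cl D a b := by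
  obtain ⟨⟨K, _, _, h1⟩, H⟩ := H8.exC M E
  obtain ⟨⟨K', _, _, h2⟩, H'⟩ := H8.exC M' E'
  obtain ⟨ρ, n, e, e', f, σ, x, Y, z, F, C⟩ := H K h1
  obtain ⟨_, _, _, _, _, _, _, _, _, -, C'⟩ := H' K' h2
  obtain ⟨ρ', n', e2, e2', f', σ', x', Y', z', F', C'⟩ := H' K (by rw [← h2, ← C'.az.card, ← h, C.az.card])
  obtain rfl := C.ti.uq C'.ti
  have O := (C.or F M E).prod (C'.or F' M' E')
  have q : ∀ t a b, gn (ρ, ρ') (fun a => (x a, x' a)) (fun a => (Y a, Y' a)) (fun a => (z a, z' a)) t a b =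
      (gn ρ x Y z t a b, gn ρ' x' Y' z' t a b) := fun t a b => by unfold gn; split <;> rfl
  refine ⟨O.D C.ti, fun t => ⟨?_, fun u hu => ?_, fun u hu => ?_, ?_⟩, fun a b p p' => ?_⟩
  · rintro _ ⟨a, b, rfl⟩; rw [q]; exact ⟨C.gm F M t a b, C'.gm F' M' t a b⟩
  · obtain ⟨a, b, rfl⟩ := C.sur F M E hu; exact ⟨_, a, b, q t a b⟩
  · obtain ⟨a, b, rfl⟩ := C'.sur F' M' E' hu; exact ⟨_, a, b, q t a b⟩
  · rintro _ ⟨a, b, rfl⟩
    obtain ⟨b, rfl⟩ := C.ti.ios b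
    rw [q, C.one F M E, C'.one F' M' E']
  · obtain ⟨d, rfl⟩ := Nat.exists_eq_add_of_le p.le
    exact O.cl C.ti d (by omega) (by omega) a

/-- finite Moufang octagons are determined by the orders of the root groups -/
theorem oct_gr (M : MP 8 X) (M' : MP 8 X') (h0 : Nat.card (X 0) = Nat.card (X' 0)) (h1 : Nat.card (X 1) = Nat.card (X' 1)) :
    ∃ D : ℕ → Subgroup (G × G'), (∀ t, Gr (D t) (X t) (X' t)) ∧
      ∀ a b, a < b → b < a + 8 → ∀ d ∈ D a, ∀ e ∈ D b, ⁅d, e⁆ ∈ Yy D (a + 1) b := by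
  have k : ∀ {m m'}, (2 ^ (2 * m + 1)) ^ 2 = 2 ^ (2 * m' + 1) → False := fun e => by
    rw [← pow_mul] at e; have := Nat.pow_right_injective le_rfl e; omega
  obtain ⟨m, ⟨E, a, b⟩ | ⟨E, a, b⟩⟩ := oct_card' M <;> obtain ⟨m', ⟨E', a', b'⟩ | ⟨E', a', b'⟩⟩ := oct_card' M'
  · exact oct_gr0 M E M' E' h1
  · exact (k (a.symm.trans (h0.trans a'))).elim
  · exact (k (b.symm.trans (h1.trans b'))).elim
  obtain ⟨D, h2, h3⟩ := oct_gr0 (H8.shift M 1) E (H8.shift M' 1) E' ((H8.card2 M).trans (h0.trans (H8.card2 M').symm))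
  refine ⟨fun t => D (t + 15), fun t => ?_, fun a b p p' d hd e he => Yy_le (fun t _ _ _ h => mY (t := t - 15) ?_)
    (h3 _ _ (by omega) (by omega) d hd e he)⟩
  · simpa only [add_assoc, M.per t, M'.per t] using h2 (t + 15)
  · rwa [Nat.sub_add_cancel (by omega)]

end CF.Oc
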