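import Cfsg.Agent.Hx.Mod2
import Cfsg.Agent.BN.TwF4
import Cfsg.Agent.S1074

/-! The Moufang octagons of the groups `²F₄(q)`. -/

set_option autoImplicit false

namespace CF.Hx

open CF.Tb CF.BN CF.Chev Cfsg Cfsg.Lie

section

variable {B ι : Type} [Fintype B] [DecidableEq B] [Fintype ι] [DecidableEq ι] {C : ChevBasis B ι} {K G : Type} [Field K]
  [Group G] {ρ : StRep C K G} {T : Tw ρ} {G1 : Subgroup G} (F : T.Form G1) [Finite K]
include F

/-- the case of a group generated by its unipotent elements -/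
theorem mm_gen (hs : F.Simp) (hZ : Subgroup.center G = ⊥) (hg : G1 ≤ T.Gen) {i j : B}
    (h1 : ∀ k, k ∈ T.S.orb i ∨ k ∈ T.S.orb j) {m : ℕ} (h2 : orderOf (T.S.s i * T.S.s j) = m + 3) {X : Type*} [Group X]
    (e : Nonempty (X ≃* G1)) : Mm X (m + 3) (Nat.card (blk T i)) (Nat.card (blk T j)) := by
  haveI := fin T
  refine mm_form F (F.normalCore_eq_bot hs hZ) h1 h2 e fun M l Y hY => ?_
  have F' : T.Form (Y.map G1.subtype) := ⟨(Subgroup.map_subtype_le _).trans F.fix,
    fun k g a => ⟨⟨g, F.pos k a⟩, hY 1 _ (TB.Rt_one.ge (l k a)), rfl⟩, fun k => by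
      obtain ⟨v, hv, h2, h3⟩ := F.neg k
      have n := F.nW_nJ k
      have m : ((nd F k).1 * ⟨v, hv⟩ * (nd F k).1⁻¹ : G1) ∈ (blk T k).subgroupOf G1 :=
        ⟨n.acts.conj_mem_U (fun r hr => And.intro ((pos_lg_of_inSub hr.2).2 hr.1) (inSub_lg.2 hr.2)) h2,
          F.fix (mul_mem (mul_mem (nd F k).1.2 hv) (inv_mem (nd F k).1.2))⟩
      exact ⟨v, ⟨_, hY _ _ ((nw_wt _ _ (inv_mem (F.bn.subset (nd F k).2))).conj_U (l k m)), by simp [mul_assoc]⟩, h2, h3⟩⟩
  exact eq_top_iff.2 fun g _ => (Subgroup.mem_map_iff_mem G1.subtype_injective).1 (F'.Gen_le (hg g.2))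

end

theorem mmF4 {K : Type} [Field K] [Fintype K] {m : ℕ} (hK : Fintype.card K = 2 ^ (2 * m + 1)) :
    Mm (twistedF4 K (2 ^ m)) 8 (2 ^ (2 * m + 1)) ((2 ^ (2 * m + 1)) ^ 2) := by
  obtain ⟨_, θ, hθ, h2⟩ := exists_theta Nat.prime_two hK
  have h := isIs_twF4 θ
  have D := dataF4 (pF4_eq h)
  have h3 : ∀ i, Nat.card (blk (twF4 θ) i) = (2 ^ (2 * m + 1)) ^ ((rlF4 i).length / 2) := fun i => by
    simpa only [← D.length_s, Tw.cU, Tw.Uw_lg, ← hK, Nat.card_eq_fintype_card] using cU_F4 h h2 i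
  have := mm_gen (packF4 hθ h2).F (simpF4 h h2 hθ) (linkF4.center_group K) (gF4_le_Gen h h2 hθ) (i := 0) (j := 1)
    (by simp only [packF4, D.mem_orb]; decide) (m := 5) (orderF4 (pF4_eq h)) ⟨(packF4 hθ h2).e⟩
  simp only [packF4, h3] at this
  exact (congrArg (Mm _ 8 · _) (pow_one _)).mp this

theorem not_simple_of_index {X : Type*} [Group X] (h : (commutator X).index = 2) (n : ¬ IsMulCommutative (commutator X)) :
    ¬ IsSimpleGroup X := fun _ => by
  rcases (inferInstance : (commutator X).Normal).eq_bot_or_eq_top with e | e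
  · rw [e] at n; exact n inferInstance
  · rw [e, Subgroup.index_top] at h; omega

theorem not_simple_F42 : ¬ IsSimpleGroup (twistedF4 (ZMod 2) 1) :=
  not_simple_of_index Agent.S1074.result.1 Agent.S1074.result.2.2.1

/-- a simple group isomorphic to the model over every field of the right order -/
theorem iso2F4_of {G : Type*} [Group G] [IsSimpleGroup G] {m : ℕ} (h : ∀ (K : Type) [Field K] [Fintype K],
    Fintype.card K = 2 ^ (2 * m + 1) → Nonempty (G ≃* twistedF4 K (2 ^ m))) : Iso2F4 G := by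
  by_cases o : m = 0
  · have := h (ZMod 2) (by rw [o]; rfl)
    rw [o, pow_zero] at this
    obtain ⟨e⟩ := this
    exact (not_simple_F42 (MulEquiv.isSimpleGroup e.symm)).elim
  · obtain ⟨K, _, _, c⟩ := exists_fld (Nat.prime_two.isPrimePow.pow (show 2 * m + 1 ≠ 0 by omega))
    exact ⟨K, _, _, m, by omega, c, h K c⟩

end CF.Hx
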