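import Cfsg.Agent.Mp.OH
import Cfsg.Agent.Mp.QH

/-! Groups acting on finite Moufang octagons. -/

set_option autoImplicit false

namespace CF.Oc

open CF.Tb CF.Hx CF.BN Cfsg Cfsg.Lie

variable {I W : Type*} [Group W] [Finite W] {C : InvGen I W} {G X : Type*} [Group G] [Finite G] [MulAction G X]
  {T : TB C G X} {f : ℕ → I}

theorem mp8 {G X : Type*} [Group G] [MulAction G X] {T : TB C G X} (L : Lb C 2 0 8 f) (M : T.Mo) :
    MP 8 (T.Xs (f 0) (f 1)) := lb_mm L ▸ M.mp (L.inj 0 1 one_pos one_lt_two)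

theorem iso8 (L : Lb C 2 0 8 f) (M : T.Mo) (g : Gn T) {Y : Type*} [Group Y] {t s : ℕ} (h : Mm Y 8 t s)
    (h0 : Nat.card (T.U (f 0)) = t) (h1 : Nat.card (T.U (f 1)) = s) : Nonempty (G ≃* Y) := by
  obtain ⟨Z, _, _, P, hf, f', ⟨e⟩, L', M', g', h2, h3⟩ := h
  obtain ⟨F, hF⟩ := L.exists_is L' T.E (tb0 P hf).E
  have M2 := tp_mo F M'
  rw [← hF 0 two_pos, ← F.tp_U] at h2
  rw [← hF 1 one_lt_two, ← F.tp_U] at h3
  obtain ⟨D, h4, h5⟩ := oct_gr (mp8 L M) (mp8 L M2) (by rw [TB.Xs_zero, TB.Xs_zero, h0, h2]) (by rw [card_X1, card_X1, h1, h3])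
  exact ⟨(iso_of_cp L M M2 g (tp_gn F g') (cp_of (n := 7) M M2 (L.inj 0 1 one_pos one_lt_two) (lb_mm L) (fun t _ => h4 t)
    fun a b _ _ => h5 a b (by omega) (by omega))).some.trans e.symm⟩

/-- finite Moufang octagons -/
theorem oct_main (L : Lb C 2 0 8 f) (M : T.Mo) (g : Gn T) : ∃ m,
    (Nat.card (T.U (f 0)) = (2 ^ (2 * m + 1)) ^ 2 ∧ Nat.card (T.U (f 1)) = 2 ^ (2 * m + 1) ∨
      Nat.card (T.U (f 0)) = 2 ^ (2 * m + 1) ∧ Nat.card (T.U (f 1)) = (2 ^ (2 * m + 1)) ^ 2) ∧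
    ∀ (K : Type) [Field K] [Fintype K], Fintype.card K = 2 ^ (2 * m + 1) → Nonempty (G ≃* twistedF4 K (2 ^ m)) := by
  obtain ⟨m, h⟩ := oct_card' (mp8 L M)
  rw [TB.Xs_zero, card_X1] at h
  exact ⟨m, h.imp And.right And.right, fun K _ _ c => h.elim (fun h => iso8 L M g (mmF4 c).swap h.2.1 h.2.2)
    fun h => iso8 L M g (mmF4 c) h.2.1 h.2.2⟩

theorem oct_iso [IsSimpleGroup G] (M : T.Mo) {i k : I} (h : ∀ a, a = i ∨ a = k) (h8 : mm C i k = 8) : Iso2F4 G :=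
  let ⟨_, _, H⟩ := oct_main (lb_of (ne_of_mm (n := 6) h8) h h8) M (gn_of M i); iso2F4_of H

end CF.Oc
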